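import Groth.Agent.EtPurEqLib.Local
import Groth.Agent.EtBlowSqLib.Square
import Groth.Agent.CdCharPLib.Base
import Mathlib.AlgebraicGeometry.Morphisms.FlatMono

/-!
# Purity in codimension zero
-/

set_option autoImplicit false
set_option linter.all false
set_option backward.isDefEq.respectTransparency false
set_option backward.isDefEq.respectTransparency.types false
set_option synthInstance.maxHeartbeats 400000
set_option maxHeartbeats 1600000

universe u

open CategoryTheory CategoryTheory.Limits AlgebraicGeometry Opposite IsLocalRing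
open Groth.Agent Groth.Agent.EtShLib EtLocCohLib EtPurLib

noncomputable section

namespace EtPurEqLib

variable {X : Scheme.{u}}

/-- A sheaf which is zero étale locally is zero. -/
theorem isZero_of_locally (F : EtCoh.Ab X)
    (h : ∀ x : X, ∃ (X' : Scheme.{u}) (g : X' ⟶ X) (_ : AlgebraicGeometry.Etale g) (x' : X'),
      g.base x' = x ∧ IsZero ((EtCoh.pull g).obj F)) : IsZero F := by
  refine EtBlowSq.isZero_of_stalks F fun Ω _ _ ξ => ?_
  obtain ⟨X', g, _, x', hx', hz⟩ := h (ξ.base default)
  obtain ⟨l, hl, -⟩ := Scheme.exists_fac_of_etale_of_isSepClosed g ξ x' hx'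
  haveI := (IsZero.iff_id_eq_zero _).1 hz
  subst hl
  refine IsZero.of_iso ?_ ((stalkPull g l AddCommGrpCat.{u + 1}).app F)
  exact Functor.map_isZero (stk (A := AddCommGrpCat.{u + 1}) l) hz

/-- Higher local cohomology along everything vanishes. -/
theorem isZero_locCoh_empty {U : Scheme.{u}} (j : U ⟶ X) [IsOpenImmersion j] [EtCoh.BCCont j] [IsEmpty U]
    (F : EtCoh.Ab X) (q : ℕ) : IsZero ((EtDual.locCoh j (q + 1)).obj F) := by
  haveI := preservesFiniteLimits_secSupp j
  have h : ∀ G : EtCoh.Ab X, EtDual.unitApp j G = 0 := fun G => by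
    ext W s
    refine (unitApp_app_eq_zero_iff j G W.unop s).2 ?_
    haveI : IsEmpty ((EtShriek.compEtale j).obj ((EtCoh.bc j).obj W.unop)).left :=
      ⟨fun z => IsEmpty.false (α := U) ((pullback.snd W.unop.hom j).base z)⟩
    haveI := subsingleton_sect_of_isEmpty G ((EtShriek.compEtale j).obj ((EtCoh.bc j).obj W.unop))
    exact Subsingleton.elim _ _
  let θ : EtDual.secSupp j ≅ 𝟭 (EtCoh.Ab X) :=
    NatIso.ofComponents (fun G => kernelIsoOfEq (h G) ≪≫ kernelZeroIsoSource) fun {G G'} φ => by
      simp only [Iso.trans_hom, kernelZeroIsoSource_hom, Functor.id_map, Category.assoc]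
      rw [kernelIsoOfEq_hom_comp_ι, kernelIsoOfEq_hom_comp_ι_assoc]
      exact EtLocCohLib.secSupp_map_ι j φ
  let I : InjectiveResolution F := injectiveResolution F
  let K := ((EtDual.secSupp j).mapHomologicalComplex (ComplexShape.up ℕ)).obj I.cocomplex
  let e : K ≅ I.cocomplex := (NatIso.mapHomologicalComplex θ (ComplexShape.up ℕ)).app I.cocomplex ≪≫
    (Functor.mapHomologicalComplexIdIso (EtCoh.Ab X) (ComplexShape.up ℕ)).app I.cocomplex
  exact (IsZero.of_iso (I.cocomplex_exactAt_succ q).isZero_homology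
    ((HomologicalComplex.homologyFunctor _ _ (q + 1)).mapIso e)).of_iso
      (I.isoRightDerivedObj (EtDual.secSupp j) (q + 1))

/-- In codimension zero the closed subscheme is open. -/
theorem isOpenImmersion_of_codim_zero [IsLocallyNoetherian X] {Y : Scheme.{u}} (i : Y ⟶ X) [IsClosedImmersion i]
    (hreg : ∀ x : X, IsRegularLocalRing (X.presheaf.stalk x)) (hYreg : ∀ y : Y, IsRegularLocalRing (Y.presheaf.stalk y))
    (hcodim : ∀ y : Y, ringKrullDim (X.presheaf.stalk (i.base y)) = ringKrullDim (Y.presheaf.stalk y)) :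
    IsOpenImmersion i := by
  haveI : Flat i := (Flat.iff_flat_stalkMap i).2 fun y => by
    haveI := hreg (i.base y)
    haveI := hYreg y
    haveI := CommAlgDim.isDomain_of_isRegularLocalRing (X.presheaf.stalk (i.base y))
    let φ := (i.stalkMap y).hom
    have hinj : Function.Injective φ := by
      rw [injective_iff_map_eq_zero]
      intro r hr
      by_contra hr0
      have h := ringKrullDim_succ_le_of_surjective φ (i.stalkMap_surjective y)
        (mem_nonZeroDivisors_of_ne_zero hr0) hr
      rw [hcodim y] at h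
      haveI : FiniteRingKrullDim (Y.presheaf.stalk y) := inferInstance
      obtain ⟨d, hd⟩ : ∃ d : ℕ, ringKrullDim (Y.presheaf.stalk y) = d :=
        ⟨_, (IsRegularLocalRing.spanFinrank_maximalIdeal (R := Y.presheaf.stalk y)).symm⟩
      rw [hd] at h
      norm_cast at h
      omega
    exact RingHom.Flat.of_bijective ⟨hinj, i.stalkMap_surjective y⟩
  haveI : LocallyOfFinitePresentation i := CdCharPLib.locallyOfFinitePresentation_of_noetherian i
  exact IsOpenImmersion.of_flat_of_mono i

/-- Purity in codimension zero: vanishing. -/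
theorem isZero_locCoh_zero [IsLocallyNoetherian X] {Y U : Scheme.{u}} (i : Y ⟶ X) [IsClosedImmersion i]
    (hreg : ∀ x : X, IsRegularLocalRing (X.presheaf.stalk x)) (hYreg : ∀ y : Y, IsRegularLocalRing (Y.presheaf.stalk y))
    (j : U ⟶ X) [IsOpenImmersion j] [EtCoh.BCCont j] (hij : Set.range j.base = (Set.range i.base)ᶜ)
    (hcodim : ∀ y : Y, ringKrullDim (X.presheaf.stalk (i.base y)) = ringKrullDim (Y.presheaf.stalk y))
    (F : EtCoh.Ab X) (q : ℕ) : IsZero ((EtDual.locCoh j (q + 1)).obj F) := by
  haveI := isOpenImmersion_of_codim_zero i hreg hYreg hcodim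
  refine isZero_of_locally _ fun x => ?_
  by_cases hx : x ∈ Set.range j.base
  · obtain ⟨u, rfl⟩ := hx
    refine ⟨U, j, inferInstance, u, rfl, ?_⟩
    obtain ⟨e⟩ := EtPurLib.nonempty_locCoh_pull j j (𝟙 U) (by ext z; simp) F (q + 1)
    exact (isZero_locCoh_surjective (𝟙 U) (fun z => ⟨z, rfl⟩) _ _).of_iso e
  · obtain ⟨y, rfl⟩ : x ∈ Set.range i.base := Classical.not_not.1 fun h => hx (hij.ge h)
    refine ⟨Y, i, inferInstance, y, rfl, ?_⟩
    let W : Y.Opens := i ⁻¹ᵁ j.opensRange
    have hW : Set.range W.ι.base = i.base ⁻¹' Set.range j.base := Scheme.Opens.range_ι W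
    haveI : IsEmpty W := ⟨fun w => hij.le (w.2 : i.base w.1 ∈ Set.range j.base) ⟨w.1, rfl⟩⟩
    obtain ⟨e⟩ := EtPurLib.nonempty_locCoh_pull j i W.ι hW F (q + 1)
    exact (isZero_locCoh_empty W.ι _ q).of_iso e

end EtPurEqLib
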