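import Groth.Agent.EtPurEqLib.Sheaf
import Groth.Agent.EtPurLib.SupSheaf
import Groth.Agent.EtShLib.PushStalk
import Groth.Agent.MuConstLib.Main

/-!
# The top local cohomology sheaf along a regular chain
-/

set_option autoImplicit false
set_option linter.all false
set_option backward.isDefEq.respectTransparency false
set_option backward.isDefEq.respectTransparency.types false
set_option synthInstance.maxHeartbeats 400000
set_option maxHeartbeats 1600000

universe u

open CategoryTheory CategoryTheory.Limits AlgebraicGeometry Opposite IsLocalRing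
open Groth.Agent Groth.Agent.EtShLib EtLocCohLib EtPurLib

noncomputable section

namespace EtPurEqLib

/-- Successive regular quotients by nonzero divisors. -/
def Chain : ∀ (c : ℕ) (A : Type u) [CommRing A], (Fin c → A) → Prop
  | 0, A, _, _ => IsRegularRing A
  | c + 1, A, _, y => IsRegularRing A ∧ y 0 ∈ nonZeroDivisors A ∧
      Chain c (A ⧸ Ideal.span {y 0}) (Ideal.Quotient.mk (Ideal.span {y 0}) ∘ y ∘ Fin.succ)

theorem Chain.regular : ∀ {c : ℕ} {A : Type u} [CommRing A] {y : Fin c → A}, Chain c A y → IsRegularRing A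
  | 0, _, _, _, h => h
  | _ + 1, _, _, _, h => h.1

/-- Local rings of the spectrum of a regular ring. -/
theorem regular_spec (A : Type u) [CommRing A] [IsRegularRing A] (P : Spec (CommRingCat.of A)) :
    IsRegularLocalRing ((Spec (CommRingCat.of A)).presheaf.stalk P) := by
  letI : Algebra A ((Spec (CommRingCat.of A)).presheaf.stalk P) := StructureSheaf.stalkAlgebra A P
  haveI : IsLocalization.AtPrime ((Spec (CommRingCat.of A)).presheaf.stalk P) P.asIdeal :=
    inferInstanceAs (IsLocalization.AtPrime ((Spec.structureSheaf A).presheaf.stalk P) P.asIdeal)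
  exact IsRegularLocalRing.of_ringEquiv
    (IsLocalization.algEquiv P.asIdeal.primeCompl (Localization.AtPrime P.asIdeal)
      ((Spec (CommRingCat.of A)).presheaf.stalk P)).toRingEquiv

/-- A nonzero divisor cuts out codimension one. -/
theorem codim_nzd (A : Type u) [CommRing A] [IsRegularRing A] (x : A) (hx : x ∈ nonZeroDivisors A)
    (y : Spec (CommRingCat.of (A ⧸ Ideal.span {x}))) :
    ringKrullDim ((Spec (CommRingCat.of A)).presheaf.stalk
      ((Spec.map (CommRingCat.ofHom (Ideal.Quotient.mk (Ideal.span {x})))).base y)) =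
      ringKrullDim ((Spec (CommRingCat.of (A ⧸ Ideal.span {x}))).presheaf.stalk y) + 1 := by
  let P : Spec (CommRingCat.of A) := (Spec.map (CommRingCat.ofHom (Ideal.Quotient.mk (Ideal.span {x})))).base y
  let L := (Spec (CommRingCat.of A)).presheaf.stalk P
  let M := (Spec (CommRingCat.of (A ⧸ Ideal.span {x}))).presheaf.stalk y
  letI : Algebra A L := StructureSheaf.stalkAlgebra A P
  haveI : IsLocalization.AtPrime L P.asIdeal :=
    inferInstanceAs (IsLocalization.AtPrime ((Spec.structureSheaf A).presheaf.stalk P) P.asIdeal)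
  letI : Algebra (A ⧸ Ideal.span {x}) M := StructureSheaf.stalkAlgebra _ y
  haveI : IsLocalization.AtPrime M y.asIdeal :=
    inferInstanceAs (IsLocalization.AtPrime ((Spec.structureSheaf _).presheaf.stalk y) y.asIdeal)
  haveI : IsRegularLocalRing L := regular_spec A P
  have hxP : x ∈ P.asIdeal := by
    show Ideal.Quotient.mk _ x ∈ y.asIdeal
    rw [Ideal.Quotient.eq_zero_iff_mem.2 (Ideal.mem_span_singleton_self x)]
    exact zero_mem _
  obtain ⟨e⟩ := localization_quotient x P.asIdeal hxP L M y.asIdeal rfl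
  have h0 : algebraMap A L x ≠ 0 := fun h => by
    obtain ⟨⟨m, hm⟩, hmx⟩ := (IsLocalization.map_eq_zero_iff P.asIdeal.primeCompl L x).1 h
    exact hm ((mem_nonZeroDivisors_iff_right.1 hx m hmx).symm ▸ zero_mem _)
  rw [← ringKrullDim_eq_of_ringEquiv e]
  exact (ringKrullDim_quotient_span_singleton_succ_eq_ringKrullDim (CommAlgDim.isSMulRegular_of_ne_zero h0)
    ((IsLocalization.AtPrime.to_map_mem_maximal_iff L P.asIdeal x).2 hxP)).symm

/-- A constant sheaf pushed along an isomorphism. -/
theorem nonempty_push_iso {X Y : Scheme.{u}} (e : Y ⟶ X) [IsIso e] [EtCoh.BCCont e] (n : ℕ) :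
    Nonempty ((EtCoh.push e).obj (EtCoh.const Y (ZMod n)) ≅ EtCoh.const X (ZMod n)) := by
  haveI : IsIso ((EtCoh.pullPushAdj e).unit.app (EtCoh.const X (ZMod n))) :=
    unit_isIso_of_vanish e _ fun W hW => by
      haveI : IsEmpty W.left := ⟨fun w => (hW ⟨w, rfl⟩) (e.surjective (W.hom.base w))⟩
      exact subsingleton_sect_of_isEmpty _ W
  exact ⟨((EtCoh.push e).mapIso (EtCore.pullConst e (ZMod n))).symm ≪≫
    (asIso ((EtCoh.pullPushAdj e).unit.app (EtCoh.const X (ZMod n)))).symm⟩

variable (k : Type u) [Field k] [PerfectField k]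

/-- The top local cohomology along a chain. -/
theorem chain_top : ∀ (c : ℕ) (A : Type u) [CommRing A] [IsNoetherianRing A] [Algebra k A] (y : Fin c → A)
    (hy : Chain c A y) (n : ℕ) (hnk : (n : k) ≠ 0) (ζ : A) (hζ : Polynomial.aeval ζ (Polynomial.cyclotomic n ℤ) = 0)
    {U : Scheme.{u}} (j : U ⟶ Spec (CommRingCat.of A)) [IsOpenImmersion j] [EtCoh.BCCont j]
    (hj : Set.range j.base = (PrimeSpectrum.zeroLocus (Set.range y))ᶜ),
    Nonempty ((EtDual.locCoh j (2 * c)).obj (EtCoh.const (Spec (CommRingCat.of A)) (ZMod n)) ≅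
      (EtCoh.push (Spec.map (CommRingCat.ofHom (Ideal.Quotient.mk (Ideal.span (Set.range y)))))).obj
        (EtCoh.const (Spec (CommRingCat.of (A ⧸ Ideal.span (Set.range y)))) (ZMod n)))
  | 0, A, _, _, _, y, hy, n, _, _, _, U, j, _, _, hj => by
    haveI : IsEmpty U := ⟨fun z => by
      have h := hj.le ⟨z, rfl⟩
      rw [Set.range_eq_empty y, PrimeSpectrum.zeroLocus_empty, Set.compl_univ] at h
      exact h⟩
    let π := Ideal.Quotient.mk (Ideal.span (Set.range y))
    haveI : IsIso (CommRingCat.ofHom π) := by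
      refine (ConcreteCategory.isIso_iff_bijective _).2 ⟨?_, Ideal.Quotient.mk_surjective⟩
      show Function.Injective π
      rw [RingHom.injective_iff_ker_eq_bot, Ideal.mk_ker, Set.range_eq_empty y, Ideal.span_empty]
    obtain ⟨e0⟩ := nonempty_locCoh_empty j (EtCoh.const (Spec (CommRingCat.of A)) (ZMod n))
    obtain ⟨e1⟩ := nonempty_push_iso (Spec.map (CommRingCat.ofHom π)) n
    exact ⟨e0 ≪≫ e1.symm⟩
  | c + 1, A, _, _, _, y, hy, n, hnk, ζ, hζ, U, jY, _, _, hjY => by
    obtain ⟨hA, hnzd, hrest⟩ := hy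
    haveI := hA
    haveI hB : IsRegularRing (A ⧸ Ideal.span {y 0}) := hrest.regular
    have hn : 0 < n := Nat.pos_of_ne_zero fun h => hnk (by simp [h])
    let π := Ideal.Quotient.mk (Ideal.span {y 0})
    let B := A ⧸ Ideal.span {y 0}
    let X := Spec (CommRingCat.of A)
    let D := Spec (CommRingCat.of B)
    let iD : D ⟶ X := Spec.map (CommRingCat.ofHom π)
    haveI : IsClosedImmersion iD := IsClosedImmersion.spec_of_surjective _ Ideal.Quotient.mk_surjective
    let VD : X.Opens := PrimeSpectrum.basicOpen (y 0)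
    let jD := VD.ι
    have hiD : Set.range iD.base = PrimeSpectrum.zeroLocus {y 0} := by
      rw [← PrimeSpectrum.zeroLocus_span]
      exact (range_comap_of_surjective _ _ Ideal.Quotient.mk_surjective).trans (by rw [Ideal.mk_ker])
    have hjD : Set.range jD.base = (Set.range iD.base)ᶜ := by
      rw [hiD]
      exact (Scheme.Opens.range_ι VD).trans (PrimeSpectrum.basicOpen_eq_zeroLocus_compl (y 0))
    have hr : Set.range jD.base ⊆ Set.range jY.base := by
      rw [hjD, hiD, hjY]
      exact Set.compl_subset_compl.2 (PrimeSpectrum.zeroLocus_anti_mono (Set.singleton_subset_iff.2 ⟨0, rfl⟩))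
    let γ : A →+* Γ(X, ⊤) := (Scheme.ΓSpecIso (CommRingCat.of A)).inv.hom
    have hnX : IsUnit (n : Γ(X, ⊤)) := by
      simpa using ((isUnit_iff_ne_zero.2 hnk).map (algebraMap k A)).map γ
    obtain ⟨eμ⟩ := MuConstLib.mu_iso_const X n hn hnX (γ ζ) (MuConstLib.aeval_map γ hζ)
    have hcd := codim_nzd A (y 0) hnzd
    haveI : IsLocallyNoetherian X := inferInstance
    obtain ⟨-, -, ⟨e2⟩⟩ := PurMuLib.main (regular_spec A) n hnX iD (regular_spec B) hcd jD hjD
    have hz : ∀ q : ℕ, q ≠ 2 → IsZero ((EtDual.locCoh jD q).obj (EtCoh.const X (ZMod n))) := fun q hq =>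
      EtPurEqLib.isZero_locCoh k (Spec.map (CommRingCat.ofHom (algebraMap k A))) (regular_spec A) iD (regular_spec B)
        jD hjD 1 (fun z => by simpa using hcd z) Nat.one_pos n hnk q (by simpa using hq)
    obtain ⟨e1⟩ := locCoh_one_row jY jD hr (EtCoh.const X (ZMod n)) 2 hz (2 * c)
    let W : D.Opens := iD ⁻¹ᵁ jY.opensRange
    let jY' := W.ι
    have hW : Set.range jY'.base = iD.base ⁻¹' Set.range jY.base := Scheme.Opens.range_ι W
    have hjY' : Set.range jY'.base = (PrimeSpectrum.zeroLocus (Set.range (π ∘ y ∘ Fin.succ)))ᶜ := by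
      rw [hW, hjY]
      ext Q
      show ¬ (Set.range y ⊆ (PrimeSpectrum.comap π Q).asIdeal) ↔ ¬ (Set.range (π ∘ y ∘ Fin.succ) ⊆ Q.asIdeal)
      rw [Set.range_subset_iff, Set.range_subset_iff, Fin.forall_fin_succ]
      refine not_congr ⟨fun h k => h.2 k, fun h => ⟨?_, fun k => h k⟩⟩
      show π (y 0) ∈ Q.asIdeal
      rw [Ideal.Quotient.eq_zero_iff_mem.2 (Ideal.mem_span_singleton_self (y 0))]
      exact zero_mem _
    obtain ⟨e4⟩ := chain_top c B (π ∘ y ∘ Fin.succ) hrest n hnk (π ζ) (MuConstLib.aeval_map π hζ) jY' hjY'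
    obtain ⟨e3⟩ := nonempty_locCoh_push jY iD jY' hW (EtCoh.const D (ZMod n)) (2 * c)
    let J' := Ideal.span (Set.range (π ∘ y ∘ Fin.succ))
    let ε : A ⧸ Ideal.span (Set.range y) ≃+* B ⧸ J' :=
      ((Ideal.quotEquivOfEq (span_range_succ y)).trans (DoubleQuot.quotQuotEquivQuotSup _ _).symm).trans
        (Ideal.quotEquivOfEq (show (Ideal.span (Set.range (y ∘ Fin.succ))).map π = J' by
          rw [Ideal.map_span, ← Set.range_comp]))
    haveI : IsIso (CommRingCat.ofHom ε.toRingHom) := (ConcreteCategory.isIso_iff_bijective _).2 ε.bijective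
    let e := Spec.map (CommRingCat.ofHom ε.toRingHom)
    let i := Spec.map (CommRingCat.ofHom (Ideal.Quotient.mk (Ideal.span (Set.range y))))
    let i₂ := Spec.map (CommRingCat.ofHom (Ideal.Quotient.mk J'))
    have hw : i₂ ≫ iD = e ≫ i := by
      simp only [e, i, i₂, iD, ← Spec.map_comp, ← CommRingCat.ofHom_comp]
      exact congrArg (fun t => Spec.map (CommRingCat.ofHom t)) (RingHom.ext fun a => rfl)
    obtain ⟨e5⟩ := nonempty_push_iso e n
    exact ⟨eqToIso (by rw [show 2 * (c + 1) = 2 * c + 2 by ring]) ≪≫ e1 ≪≫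
      (EtDual.locCoh jY (2 * c)).mapIso (((EtDual.locCoh jD 2).mapIso eμ).symm ≪≫ e2) ≪≫ e3 ≪≫
      (EtCoh.push iD).mapIso e4 ≪≫ (EtCoh.pushComp iD i₂).app _ ≪≫ eqToIso (by rw [hw]) ≪≫
      ((EtCoh.pushComp i e).app _).symm ≪≫ (EtCoh.push i).mapIso e5⟩

end EtPurEqLib
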