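import Groth.Agent.EtRegAcycLib.ParamReg
import Groth.Agent.RegLocHomLib.Basic
import Groth.Agent.AdicFSLib.Main
import Groth.Agent.S9314
import Groth.Agent.S0541
import Groth.Agent.HensGRingLib.Strict
import Groth.Agent.TransLib.GRingLocal
import Groth.Agent.S0598
import Groth.Agent.GRingLib.FiniteType
import Groth.Agent.SMTLib.MaxHeight
import Mathlib.RingTheory.RegularLocalRing.Polynomial
import Mathlib.RingTheory.MvPolynomial.Ideal

/-!
# Regular parameters over a perfect field
-/

set_option autoImplicit false
set_option linter.all false
set_option backward.isDefEq.respectTransparency false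
set_option backward.isDefEq.respectTransparency.types false
set_option synthInstance.maxHeartbeats 400000
set_option maxHeartbeats 1000000

universe u

open IsLocalRing TensorProduct

noncomputable section

namespace EtPurEqLib

/-- A field isomorphic to a perfect field is perfect. -/
theorem perfectField_of_bijective {K L : Type*} [Field K] [Field L] [PerfectField K] (f : K →+* L)
    (hf : Function.Bijective f) : PerfectField L := by
  letI := f.toAlgebra
  haveI : Module.Finite K L := Module.Finite.of_surjective (Algebra.linearMap K L) hf.2
  exact Algebra.IsAlgebraic.perfectField K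

section Reg

variable {V A : Type u} [CommRing V] [IsRegularLocalRing V] [PerfectField (ResidueField V)]
  [CommRing A] [IsRegularLocalRing A] [Algebra V A] [IsLocalHom (algebraMap V A)]

/-- Regular parameters going to regular parameters give a regular homomorphism. -/
theorem isRegularHom_of_params (hV : CAlg.IsRegularHom V (AdicCompletion (maximalIdeal V) V))
    (hreg : IsRegularLocalRing (A ⧸ (maximalIdeal V).map (algebraMap V A)))
    (hdim : ringKrullDim A = ringKrullDim V + ringKrullDim (A ⧸ (maximalIdeal V).map (algebraMap V A))) :
    CAlg.IsRegularHom V A := by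
  haveI := hreg
  haveI : Module.Flat V A := RegLocHomLib.flat_of_dim V A hdim
  refine Groth.Agent.S9314.result hV (AdicFSLib.adicFS_of_flat ?_)
  let p := maximalIdeal V
  haveI : IsRegularRing (A ⧸ p.map (algebraMap V A)) := CommAlgDim.isRegularRing_of_isRegularLocalRing _
  let κ : (V ⧸ p) ≃ₐ[V] p.ResidueField :=
    AlgEquiv.ofBijective (IsScalarTower.toAlgHom V (V ⧸ p) p.ResidueField)
      p.bijective_algebraMap_quotient_residueField
  haveI : IsRegularRing (p.Fiber A) :=
    IsRegularRing.of_ringEquiv (((Algebra.TensorProduct.quotIdealMapEquivTensorQuot A p).toRingEquiv.trans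
      (Algebra.TensorProduct.comm V A (V ⧸ p)).toRingEquiv).trans
      (Algebra.TensorProduct.congr κ AlgEquiv.refl).toRingEquiv)
  let φ : ResidueField V →+* p.ResidueField := algebraMap (V ⧸ p) p.ResidueField
  haveI : PerfectField p.ResidueField := perfectField_of_bijective φ p.bijective_algebraMap_quotient_residueField
  exact KaehlerFlatLib.isGeometricallyRegular_of_perfect

end Reg

/-- A strictly henselian regular local ring sending a regular system of parameters to given elements. -/
theorem exists_param_source (k : Type u) [Field k] [PerfectField k] (A : Type u) [CommRing A] [IsRegularLocalRing A]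
    [HenselianLocalRing A] [IsSepClosed (ResidueField A)] [Algebra k A] (r : ℕ) (x : Fin r → A) (hx : ∀ i, x i ∈ maximalIdeal A) :
    ∃ (V : Type u) (_ : CommRing V) (_ : IsRegularLocalRing V) (_ : HenselianLocalRing V)
      (_ : IsSepClosed (ResidueField V)) (_ : PerfectField (ResidueField V)) (t : Fin r → V) (f : V →+* A),
      maximalIdeal V = Ideal.span (Set.range t) ∧ ringKrullDim V = r ∧
      CAlg.IsRegularHom V (AdicCompletion (maximalIdeal V) V) ∧ IsLocalHom f ∧ ∀ i, f (t i) = x i := by
  let P := MvPolynomial (Fin r) k
  let c : k →+* A := algebraMap k A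
  let p : Ideal P := RingHom.ker (MvPolynomial.constantCoeff (σ := Fin r) (R := k))
  haveI hp : p.IsMaximal := RingHom.ker_isMaximal_of_surjective _ fun a => ⟨MvPolynomial.C a, MvPolynomial.constantCoeff_C _ a⟩
  have hspan : p = Ideal.span (Set.range MvPolynomial.X) := EtRegAcycLib.ker_constantCoeff_eq k r
  let R := Localization.AtPrime p
  haveI : IsRegularLocalRing R := IsRegularRing.isRegularLocalRing_localization p
  have hdimR : ringKrullDim R = r := by
    rw [IsLocalization.AtPrime.ringKrullDim_eq_height p R]
    rw [MaxHeight.mvPolynomial k r p]; rfl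
  let t₀ : Fin r → R := fun i => algebraMap P R (MvPolynomial.X i)
  have hmax : maximalIdeal R = Ideal.span (Set.range t₀) := by
    rw [← Localization.AtPrime.map_eq_maximalIdeal]
    refine (congrArg (Ideal.map (algebraMap P R)) hspan).trans ?_
    rw [Ideal.map_span, ← Set.range_comp]
    rfl
  let e : P →+* A := MvPolynomial.eval₂Hom c x
  have hres : (residue A).comp e = ((residue A).comp c).comp MvPolynomial.constantCoeff := by
    refine MvPolynomial.ringHom_ext (fun a => ?_) fun i => ?_
    · simp [e]
    · simp [e, (residue_eq_zero_iff _).2 (hx i)]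
  have he : ∀ g : p.primeCompl, IsUnit (e g) := fun g => by
    rw [← IsLocalRing.notMem_maximalIdeal, ← residue_eq_zero_iff]
    intro h
    have h2 := RingHom.congr_fun hres (g : P)
    rw [RingHom.comp_apply, h] at h2
    exact g.2 (((residue A).comp c).injective (h2.symm.trans (map_zero _).symm))
  let f₀ : R →+* A := IsLocalization.lift he
  have hft : ∀ i, f₀ (t₀ i) = x i := fun i =>
    (IsLocalization.lift_eq he _).trans (MvPolynomial.eval₂_X c x i)
  haveI : IsLocalHom f₀ := ⟨fun a ha => by
    by_contra hu
    have h1 : a ∈ maximalIdeal R := hu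
    rw [hmax] at h1
    have hle : Ideal.span (Set.range t₀) ≤ (maximalIdeal A).comap f₀ := Ideal.span_le.2 (by
      rintro _ ⟨i, rfl⟩
      exact Ideal.mem_comap.2 ((hft i).symm ▸ hx i))
    have h2 : f₀ a ∈ maximalIdeal A := hle h1
    exact (mem_maximalIdeal _).1 h2 ha⟩
  let V := HenselLib.SH R
  have hS : Hensel.IsStrictHenselization R V := inferInstance
  haveI := hS.henselian
  haveI : IsSepClosed (ResidueField V) := hS.isSepClosure.sep_closed
  haveI : IsNoetherianRing V := (Groth.Agent.S0540.result R V).1 inferInstance
  let t : Fin r → V := fun i => algebraMap R V (t₀ i)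
  have hmV : maximalIdeal V = Ideal.span (Set.range t) := by
    rw [← PairHensLib.map_maximalIdeal_of_isStrictHenselization R V, hmax, Ideal.map_span, ← Set.range_comp]
    rfl
  have hdimV : ringKrullDim V = r := (Groth.Agent.S0541.result R V).trans hdimR
  haveI : IsRegularLocalRing V := IsRegularLocalRing.of_spanFinrank_maximalIdeal_le _ (by
    rw [hdimV, hmV]
    have h3 : (Set.range t).ncard ≤ r := by
      rw [← Set.image_univ]
      exact (Set.ncard_image_le Set.finite_univ).trans (by simp)
    exact_mod_cast (Submodule.spanFinrank_span_le_ncard_of_finite (Set.finite_range t)).trans h3)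
  obtain ⟨f, hfl, hf⟩ := LocAcycBCLib.exists_lift (O := R) (R := V) f₀
  have hkR : Function.Bijective ((residue R).comp ((algebraMap P R).comp MvPolynomial.C)) := by
    refine ⟨RingHom.injective _, fun z => ?_⟩
    obtain ⟨z, rfl⟩ := residue_surjective z
    obtain ⟨g, s, rfl⟩ := IsLocalization.exists_mk'_eq p.primeCompl z
    have hs0 : MvPolynomial.constantCoeff (s : P) ≠ 0 := fun h => s.2 h
    refine ⟨MvPolynomial.constantCoeff g / MvPolynomial.constantCoeff (s : P), ?_⟩
    have hc : ∀ q : P, residue R (algebraMap P R q) =
        residue R (algebraMap P R (MvPolynomial.C (MvPolynomial.constantCoeff q))) := fun q => by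
      rw [← sub_eq_zero, ← map_sub, ← map_sub, residue_eq_zero_iff]
      refine (IsLocalization.AtPrime.to_map_mem_maximal_iff R p _).2 ?_
      show MvPolynomial.constantCoeff _ = 0
      simp
    have hu : residue R (algebraMap P R (s : P)) ≠ 0 := fun h =>
      ((mem_maximalIdeal _).1 ((residue_eq_zero_iff _).1 h)) (IsLocalization.map_units R s)
    apply mul_right_cancel₀ hu
    conv_rhs => rw [← map_mul, IsLocalization.mk'_spec, hc]
    conv_lhs => rw [hc]
    show residue R (algebraMap P R (MvPolynomial.C _)) * _ = _
    rw [← map_mul, ← map_mul, ← map_mul, div_mul_cancel₀ _ hs0]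
  have hcz : PerfectField (ResidueField V) := by
    haveI : PerfectField (ResidueField R) := perfectField_of_bijective _ hkR
    haveI : Algebra.IsSeparable (ResidueField R) (ResidueField V) := hS.isSepClosure.separable
    exact Algebra.IsAlgebraic.perfectField (ResidueField R)
  have hG : CAlg.IsGRing R := GRingLib.isGRing_of_isLocalization P R p.primeCompl
    (GRingLib.isGRing_of_finiteType k (@Groth.Agent.S0598.result k _ _ _ (by rw [maximalIdeal_eq_bot]; infer_instance)) P)
  exact ⟨V, inferInstance, inferInstance, inferInstance, inferInstance, hcz, t, f, hmV, hdimV,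
    HensGRingLib.isRegularHom_cpl_strictHenselization R V (TransLib.isRegularHom_completion_of_isGRing hG), hfl,
    fun i => (RingHom.congr_fun hf (t₀ i)).trans (hft i)⟩

end EtPurEqLib
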