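import Groth.Agent.EtRegAcycLib.Strict
import Groth.Agent.EtRegAcycLib.PurityOne
import Groth.Agent.EtPurEqLib.Source
import Groth.Agent.WeilExtLib.Codim
import Groth.Agent.LocAcycPointLib.Main
import Groth.Agent.MuConstLib.Main
import Groth.Agent.EtPBCProperLib.Surj2
import Groth.Agent.S4165
import Mathlib.Algebra.Category.Ring.Constructions

/-!
# Purity for one regular parameter over `ℚ`
-/

set_option autoImplicit false
set_option linter.all false
set_option backward.isDefEq.respectTransparency false
set_option backward.isDefEq.respectTransparency.types false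
set_option synthInstance.maxHeartbeats 400000
set_option maxHeartbeats 1600000

universe u

open CategoryTheory CategoryTheory.Limits AlgebraicGeometry Opposite IsLocalRing
open Groth.Agent Groth.Agent.EtShLib

noncomputable section

namespace EtPurEqLib

open EtRegAcycLib

attribute [local instance] EtSliceLib.pullExact

/-- The punctured spectrum along a regular parameter has cohomological dimension one. -/
theorem subsingleton_H_punctured (A : Type u) [CommRing A] [IsRegularLocalRing A] [HenselianLocalRing A]
    [IsSepClosed (ResidueField A)] (k : Type u) [Field k] [PerfectField k] [Algebra k A] (x : A) (hx : x ∈ maximalIdeal A) (hx2 : x ∉ maximalIdeal A ^ 2)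
    (n : ℕ) (hnk : (n : k) ≠ 0) (q : ℕ) (hq : 2 ≤ q) :
    Subsingleton (EtCoh.H (Spec (CommRingCat.of (Localization.Away x)))
      (EtCoh.mu (Spec (CommRingCat.of (Localization.Away x))) n) q) := by
  obtain ⟨V, _, _, _, _, _, t, f, hmV, hdV, hVcpl, hfl, hft⟩ :=
    EtPurEqLib.exists_param_source k A 1 (fun _ => x) (fun _ => hx)
  obtain rfl : f (t 0) = x := hft 0
  have hn : 0 < n := Nat.pos_of_ne_zero fun h => hnk (by simp [h])
  haveI : NeZero n := ⟨hn.ne'⟩
  letI := f.toAlgebra
  haveI : IsLocalHom (algebraMap V A) := hfl
  haveI : IsDomain V := CommAlgDim.isDomain_of_isRegularLocalRing V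
  haveI : IsDiscreteValuationRing V := WeilExtLib.isDiscreteValuationRing_of_regular V (le_of_eq (by simpa using hdV))
    fun h => by rw [ringKrullDim_eq_zero_of_isField h] at hdV; norm_num at hdV
  let π := t 0
  have hmV' : maximalIdeal V = Ideal.span {π} := by
    rw [hmV, Set.range_unique]
    rfl
  have hπ : Irreducible π := (IsDiscreteValuationRing.irreducible_iff_uniformizer _).2 hmV'
  have hreg : CAlg.IsRegularHom V A := by
    have hmap : (maximalIdeal V).map (algebraMap V A) = Ideal.span {f π} := by
      rw [hmV', Ideal.map_span, Set.image_singleton]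
      rfl
    haveI := CommAlgDim.isRegularLocalRing_quotient_singleton hx hx2
    refine EtPurEqLib.isRegularHom_of_params hVcpl (hmap ▸ inferInstance) ?_
    rw [hmap, hdV, add_comm]
    exact_mod_cast (ringKrullDim_quotient_span_singleton_succ_eq_ringKrullDim
      (CommAlgDim.isSMulRegular_of_ne_zero (R := A) (x := f π) fun h => hx2 (by rw [h]; exact zero_mem _)) hx).symm
  have hind := TransLib.indSmooth_of_isRegularHom hreg
  let K := Localization.Away π
  haveI := isFractionRing_away π hπ
  letI : Field K := IsFractionRing.toField V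
  let W := Spec (CommRingCat.of K)
  let Y := Spec (CommRingCat.of (Localization.Away (f π)))
  let p : W ⟶ Spec (CommRingCat.of V) := Spec.map (CommRingCat.ofHom (algebraMap V K))
  let pY : Y ⟶ Spec (CommRingCat.of A) := Spec.map (CommRingCat.ofHom (algebraMap A (Localization.Away (f π))))
  let hb : Y ⟶ W := Spec.map (CommRingCat.ofHom (Localization.awayMap f π))
  have sq : IsPullback hb pY p (Spec.map (CommRingCat.ofHom (algebraMap V A))) := by
    haveI : IsLocalization ((Submonoid.powers π).map f) (Localization.Away (f π)) := by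
      rw [Submonoid.map_powers]; infer_instance
    have H : (Localization.awayMap f π).comp (algebraMap V K) = (algebraMap A (Localization.Away (f π))).comp f :=
      IsLocalization.map_comp (M := Submonoid.powers π) (T := Submonoid.powers (f π))
        (hy := fun y hy => by obtain ⟨m, rfl⟩ := hy; exact ⟨m, (map_pow f π m).symm⟩)
    exact (isPullback_SpecMap_of_isPushout _ _ _ _ (CommRingCat.isPushout_of_isLocalization f
      (Localization.awayMap f π) H (Submonoid.powers π))).flip
  have hnV : IsUnit (n : V) := by
    refine isUnit_of_map_unit f _ ?_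
    rw [map_natCast]
    simpa using ((isUnit_iff_ne_zero.2 hnk).map (algebraMap k A))
  have hL : EtAcyc.IsLTorsion (EtAcyc.primesInvertibleOn (Spec (CommRingCat.of V))) (EtCoh.const W (ZMod n)) := by
    refine LocAcycPointLib.isLTorsion_const ⟨hn, fun r hr hrn => ?_⟩
    have hrV : IsUnit (r : V) := by
      obtain ⟨m, rfl⟩ := hrn
      rw [Nat.cast_mul] at hnV
      exact isUnit_of_mul_isUnit_left hnV
    refine ⟨hr, fun y h => ?_⟩
    have h' := (hrV.map (Scheme.ΓSpecIso (CommRingCat.of V)).inv.hom).map
      ((Spec (CommRingCat.of V)).Γevaluation y).hom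
    rw [map_natCast, map_natCast, h] at h'
    exact not_isUnit_zero h'
  have hbij := ((compN_indSmooth hind p hb pY sq q) _ hL).1 q le_rfl
  haveI : Subsingleton (EtCoh.H W (EtCoh.const W (ZMod n)) q) :=
    Groth.Agent.S4165.result V K ⟨inferInstance, inferInstance⟩ n hnV _
      (fun U s => by rw [← Groth.Agent.ConsEffaceLib.app_nsmul_id, CdOneLib.nsmul_id_const]; rfl) q hq
  obtain ⟨ζ, hζ⟩ := EtPBCProperLib.exists_root_cyclotomic V n hnV
  let g : V →+* Γ(Y, ⊤) :=
    (Scheme.ΓSpecIso (CommRingCat.of (Localization.Away (f π)))).inv.hom.comp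
      ((algebraMap A (Localization.Away (f π))).comp f)
  obtain ⟨eμ⟩ := MuConstLib.mu_iso_const Y n hn (by simpa using hnV.map g) (g ζ) (MuConstLib.aeval_map g hζ)
  haveI : Subsingleton ((EtCoh.HF Y q).obj ((EtCoh.pull hb).obj (EtCoh.const W (ZMod n)))) :=
    hbij.surjective.subsingleton
  exact ((EtCoh.HF Y q).mapIso ((EtCoh.pull hb).mapIso (Iso.refl _) ≪≫ EtCore.pullConst hb (ZMod n) ≪≫
    eμ.symm)).addCommGroupIsoToAddEquiv.toEquiv.symm.subsingleton

end EtPurEqLib
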