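import Groth.Agent.EtPurLib.Divisor
import Groth.Agent.EtPurEqLib.PurityOne

/-!
# Purity for a regular parameter of a strictly henselian ring over a perfect field
-/

set_option autoImplicit false
set_option linter.all false
set_option backward.isDefEq.respectTransparency false
set_option backward.isDefEq.respectTransparency.types false
set_option synthInstance.maxHeartbeats 400000
set_option maxHeartbeats 1600000

universe u

open CategoryTheory CategoryTheory.Limits AlgebraicGeometry Opposite IsLocalRing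
open Groth.Agent Groth.Agent.EtShLib

noncomputable section

namespace EtPurEqLib

open EtPurLib


variable (k : Type u) [Field k] [PerfectField k] (A : Type u) [CommRing A] [IsRegularLocalRing A] (x : A)
variable [HenselianLocalRing A] [IsSepClosed (ResidueField A)] [Algebra k A]

include k

theorem isUnit_natCast' {B : Type u} [CommRing B] [Algebra k B] {n : ℕ} (hnk : (n : k) ≠ 0) : IsUnit (n : B) := by
  simpa using (isUnit_iff_ne_zero.2 hnk).map (algebraMap k B)

theorem divisor_Rpush (hm : x ∈ maximalIdeal A) (hm2 : x ∉ maximalIdeal A ^ 2) (n : ℕ) (hnk : (n : k) ≠ 0)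
    {U : Scheme.{u}} (j : U ⟶ Spec (CommRingCat.of A)) [IsOpenImmersion j] [EtCoh.BCCont j]
    (hj : Set.range j.base = (PrimeSpectrum.zeroLocus {x})ᶜ) (p : ℕ) (hp : 2 ≤ p) :
    IsZero ((EtCoh.Rpush j p).obj ((EtCoh.pull j).obj (EtCoh.const (Spec (CommRingCat.of A)) (ZMod n)))) := by
  have hn : 0 < n := Nat.pos_of_ne_zero fun h => hnk (by simp [h])
  haveI : IsLocallyNoetherian U := LocallyOfFiniteType.isLocallyNoetherian j
  refine isZero_Rpush_of_strict j _ p fun P R _ _ _ _ _ _ _ hclosed => subsingleton_H_fibre_const j _ n p ?_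
  by_cases hP : x ∈ P.asIdeal
  swap
  · refine subsingleton_H_over_open j P R _ hclosed ?_ n p (by omega)
    rw [hj]
    exact fun h => hP ((PrimeSpectrum.mem_zeroLocus P _).1 h rfl)
  let L := (Spec (CommRingCat.of A)).presheaf.stalk P
  haveI : IsRegularLocalRing L := isRegularLocalRing_stalk A P
  haveI : IsRegularLocalRing R := (Groth.Agent.S2743.result L R).2 inferInstance
  obtain ⟨hx, hx2⟩ := notMem_sq_stalk A x hm hm2 P hP
  obtain ⟨hxR, hxR2⟩ := notMem_sq_strict (R := L) (S := R) (x := (StructureSheaf.toStalk A P).hom x) hx hx2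
  let ψ : A →+* R := (algebraMap L R).comp (StructureSheaf.toStalk A P).hom
  letI : Algebra k R := (ψ.comp (algebraMap k A)).toAlgebra
  have hg : Hens2.specOf (Spec (CommRingCat.of A)) P R = Spec.map (CommRingCat.ofHom ψ) := by
    show Spec.map _ ≫ (Spec (CommRingCat.of A)).fromSpecStalk P = _
    rw [Spec.fromSpecStalk_eq', ← Spec.map_comp]
    rfl
  let b := pullback.snd j (Hens2.specOf (Spec (CommRingCat.of A)) P R)
  let i : Spec (CommRingCat.of (Localization.Away (ψ x))) ⟶ Spec (CommRingCat.of R) :=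
    Spec.map (CommRingCat.ofHom (algebraMap R (Localization.Away (ψ x))))
  haveI : IsOpenImmersion i := IsOpenImmersion.of_isLocalization (ψ x)
  have hrange : Set.range b.base = Set.range i.base := by
    rw [show Set.range i.base = _ from PrimeSpectrum.localization_away_comap_range (Localization.Away (ψ x)) (ψ x),
      IsOpenImmersion.range_pullbackSnd, hg]
    show (Spec.map (CommRingCat.ofHom ψ)).base ⁻¹' Set.range j.base = _
    rw [hj]
    ext r
    show ¬ (({x} : Set A) ⊆ (PrimeSpectrum.comap ψ r).asIdeal) ↔ ψ x ∉ r.asIdeal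
    rw [Set.singleton_subset_iff]
    rfl
  let φ := IsOpenImmersion.isoOfRangeEq b i hrange
  refine subsingleton_H_of_isIso φ.hom ?_
  haveI : NeZero n := ⟨hn.ne'⟩
  obtain ⟨ζ, hζ⟩ := EtPBCProperLib.exists_root_cyclotomic R n (isUnit_natCast' k hnk)
  let γ : R →+* Γ(Spec (CommRingCat.of (Localization.Away (ψ x))), ⊤) :=
    (Scheme.ΓSpecIso (CommRingCat.of (Localization.Away (ψ x)))).inv.hom.comp (algebraMap R _)
  obtain ⟨eμ⟩ := MuConstLib.mu_iso_const (Spec (CommRingCat.of (Localization.Away (ψ x)))) n hn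
    (by simpa using (isUnit_natCast' k (B := R) hnk).map γ) (γ ζ) (MuConstLib.aeval_map γ hζ)
  haveI := EtPurEqLib.subsingleton_H_punctured R k (ψ x) hxR hxR2 n hnk p hp
  exact @Equiv.subsingleton _ _ ((EtCoh.HF _ p).mapIso eμ.symm).addCommGroupIsoToAddEquiv.toEquiv
    (EtPurEqLib.subsingleton_H_punctured R k (ψ x) hxR hxR2 n hnk p hp)

/-- Purity for a regular parameter. -/
theorem divisor_locCoh (hm : x ∈ maximalIdeal A) (hm2 : x ∉ maximalIdeal A ^ 2) (n : ℕ) (hnk : (n : k) ≠ 0)
    {U : Scheme.{u}} (j : U ⟶ Spec (CommRingCat.of A)) [IsOpenImmersion j] [EtCoh.BCCont j]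
    (hj : Set.range j.base = (PrimeSpectrum.zeroLocus {x})ᶜ) :
    (∀ q : ℕ, q ≠ 2 → IsZero ((EtDual.locCoh j q).obj (EtCoh.const (Spec (CommRingCat.of A)) (ZMod n)))) ∧
      Nonempty ((EtDual.locCoh j 2).obj (EtCoh.const (Spec (CommRingCat.of A)) (ZMod n)) ≅
        (EtCoh.push (Spec.map (CommRingCat.ofHom (Ideal.Quotient.mk (Ideal.span {x}))))).obj
          (EtCoh.const (Spec (CommRingCat.of (A ⧸ Ideal.span {x}))) (ZMod n))) := by
  have hn : 0 < n := Nat.pos_of_ne_zero fun h => hnk (by simp [h])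
  let X := Spec (CommRingCat.of A)
  let i := Spec.map (CommRingCat.ofHom (Ideal.Quotient.mk (Ideal.span {x})))
  haveI : IsClosedImmersion i := IsClosedImmersion.spec_of_surjective _ Ideal.Quotient.mk_surjective
  haveI := CommAlgDim.isRegularLocalRing_quotient_singleton hm hm2
  haveI : NeZero n := ⟨hn.ne'⟩
  obtain ⟨ζ, hζ⟩ := EtPBCProperLib.exists_root_cyclotomic A n (isUnit_natCast' k hnk)
  let γ : A →+* Γ(X, ⊤) := (Scheme.ΓSpecIso (CommRingCat.of A)).inv.hom
  have hnX : IsUnit (n : Γ(X, ⊤)) := by simpa using (isUnit_natCast' k (B := A) hnk).map γ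
  obtain ⟨eμ⟩ := MuConstLib.mu_iso_const X n hn hnX (γ ζ) (MuConstLib.aeval_map γ hζ)
  have hU : Set.range j = (Set.range i)ᶜ := by
    show Set.range j.base = _
    rw [hj]
    refine congrArg compl ?_
    rw [← PrimeSpectrum.zeroLocus_span]
    exact ((range_comap_of_surjective _ _ Ideal.Quotient.mk_surjective).trans
      (by rw [Ideal.mk_ker])).symm
  obtain ⟨h0, h1, ⟨h2⟩⟩ := PurMuLib.main (isRegularLocalRing_stalk A) n hnX i
    (isRegularLocalRing_stalk (A ⧸ Ideal.span {x})) (codim_one A x hm hm2) j hU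
  refine ⟨fun q hq => ?_, ⟨((EtDual.locCoh j 2).mapIso eμ).symm ≪≫ h2⟩⟩
  rcases q with _ | _ | _ | p
  · exact h0.of_iso ((EtDual.locCoh j 0).mapIso eμ).symm
  · exact h1.of_iso ((EtDual.locCoh j 1).mapIso eμ).symm
  · exact absurd rfl hq
  · obtain ⟨-, h⟩ := Groth.Agent.S6658.result j (EtCoh.const X (ZMod n))
    obtain ⟨e⟩ := h (p + 2) (by omega)
    exact (divisor_Rpush k A x hm hm2 n hnk j hj (p + 2) (by omega)).of_iso e.symm

end EtPurEqLib
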