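import Groth.Agent.EtPurEqLib.Semi
import Groth.Agent.FFDescLib.Closure
import Groth.Agent.CohenLib.DerExt
import Groth.Agent.BlowUpLib.RegBlow

/-!
# Exactness of semi-purity; smooth schemes over fields
-/

set_option autoImplicit false
set_option linter.all false
set_option backward.isDefEq.respectTransparency false
set_option backward.isDefEq.respectTransparency.types false
set_option synthInstance.maxHeartbeats 400000
set_option maxHeartbeats 1600000

universe u

open CategoryTheory CategoryTheory.Limits AlgebraicGeometry Opposite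

noncomputable section

namespace EtPurEqLib

open Groth.Agent Groth.Agent.EtShLib EtLocCohLib EtPurLib IsLocalRing in
theorem not_depth (k : Type u) [Field k] [PerfectField k] {X U : Scheme.{u}} [IsLocallyNoetherian X]
    (qX : X ⟶ Spec (CommRingCat.of k))
    (hreg : ∀ x : X, IsRegularLocalRing (X.presheaf.stalk x)) (j : U ⟶ X) [IsOpenImmersion j] [EtCoh.BCCont j]
    (c : ℕ) (hY : ∀ y : X, y ∉ Set.range j.base → (c : WithBot ℕ∞) ≤ ringKrullDim (X.presheaf.stalk y))
    (y : X) (hy : y ∉ Set.range j.base) (hyc : ringKrullDim (X.presheaf.stalk y) = c) (ℓ : ℕ) (hℓ : ℓ.Prime) (hℓk : (ℓ : k) ≠ 0) :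
    ¬ EtDepth.DepthGE j (EtCoh.const X (ZMod ℓ)) (2 * c + 1) := by
  intro h
  haveI : Fact (1 < ℓ) := ⟨hℓ.one_lt⟩
  haveI : IsLocallyNoetherian U := LocallyOfFiniteType.isLocallyNoetherian j
  let M := AddCommGrpCat.of (ULift.{u + 1} (ZMod ℓ))
  rcases Nat.eq_zero_or_pos c with rfl | hc
  · haveI := EtLocCohLib.preservesFiniteLimits_secSupp j
    have h0 := (depthGE_one_iff j _).1 h
    have hd := (isZero_secSupp_const_iff j M).1 h0
    obtain ⟨z, hz⟩ := FFDescLib.exists_specializes_of_mem_closure_range j (hd y)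
    refine hy ?_
    rw [ringKrullDim_stalk_eq_coheight] at hyc
    have hmax : IsMax y := Order.coheight_eq_zero.1 (by exact_mod_cast hyc)
    exact (hmax (b := j.base z) hz : y ⤳ j.base z).mem_open j.isOpenEmbedding.isOpen_range ⟨z, rfl⟩
  haveI := hreg y
  obtain ⟨R, _, _, _, _, hR⟩ := Groth.Agent.S0537.result (X.presheaf.stalk y)
  haveI := hR
  haveI : HenselianLocalRing R := Hensel.IsStrictHenselization.henselian (R := X.presheaf.stalk y)
  haveI : IsSepClosed (ResidueField R) := by
    letI := (ResidueField.map (algebraMap (X.presheaf.stalk y) R)).toAlgebra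
    exact (Hensel.IsStrictHenselization.isSepClosure (R := X.presheaf.stalk y) (S := R)).sep_closed
  haveI : IsRegularLocalRing R := (Groth.Agent.S2743.result (X.presheaf.stalk y) R).2 inferInstance
  have hdR : ringKrullDim R = c := (Groth.Agent.S0541.result (X.presheaf.stalk y) R).trans hyc
  let g := Hens2.specOf X y R
  let Xs := Spec (CommRingCat.of R)
  have hg : g.base (closedPoint R) = y := by
    refine Eq.trans (congrArg (X.fromSpecStalk y).base ?_) X.fromSpecStalk_closedPoint
    exact IsLocalRing.comap_closedPoint (algebraMap (X.presheaf.stalk y) R)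
  letI : Algebra k R := (Spec.preimage (g ≫ qX)).hom.toAlgebra
  haveI : Flat g := by
    haveI := AlgSpLib.flat_fromSpecStalk y
    haveI := Groth.Agent.S0539.result (X.presheaf.stalk y) R
    haveI : Flat (Spec.map (CommRingCat.ofHom (algebraMap (X.presheaf.stalk y) R))) :=
      (HasRingHomProperty.Spec_iff (P := @Flat)).2 (RingHom.flat_algebraMap_iff.2 inferInstance)
    exact inferInstanceAs (Flat (Spec.map _ ≫ X.fromSpecStalk y))
  haveI : IsLocallyNoetherian Xs := inferInstance
  let b := pullback.snd j g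
  have hr : Set.range b.base = g.base ⁻¹' Set.range j.base := IsOpenImmersion.range_pullbackSnd j g
  -- parameters
  obtain ⟨s, hs, hsm⟩ := Submodule.FG.exists_span_finset_card_eq_spanFinrank
    (IsNoetherian.noetherian (maximalIdeal R))
  have hsd : s.card = c := by
    have := IsRegularLocalRing.spanFinrank_maximalIdeal (R := R)
    rw [hdR] at this
    rw [hs]
    exact_mod_cast this
  let t : Fin c → R := fun k => ((s.equivFinOfCardEq hsd).symm k : R)
  have ht : Ideal.span (Set.range t) = maximalIdeal R := by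
    rw [← hsm]
    refine congrArg Ideal.span (Set.ext fun r => ⟨?_, fun hr => ?_⟩)
    · rintro ⟨k, rfl⟩
      exact ((s.equivFinOfCardEq hsd).symm k).2
    · exact ⟨s.equivFinOfCardEq hsd ⟨r, hr⟩, by simp [t]⟩
  let eκ : R ⧸ Ideal.span (Set.range t) ≃+* ResidueField R := Ideal.quotEquivOfEq ht
  have hrange : Set.range b.base = (PrimeSpectrum.zeroLocus (Set.range t))ᶜ := by
    rw [← PrimeSpectrum.zeroLocus_span, ht, PrimeSpectrum.zeroLocus_eq_singleton, hr]
    refine Set.ext fun P => ⟨fun hP hP' => hy (hg ▸ ?_), fun hP => ?_⟩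
    · have : P = closedPoint R := hP'
      exact this ▸ hP
    refine Classical.not_not.1 fun hn => hP ?_
    have hP1 := (hY (g.base P) hn).trans (DepthLib.ringKrullDim_stalk_le_of_flat g P)
    letI : Algebra R (Xs.presheaf.stalk P) := StructureSheaf.stalkAlgebra R P
    haveI : IsLocalization.AtPrime (Xs.presheaf.stalk P) P.asIdeal :=
      inferInstanceAs (IsLocalization.AtPrime ((Spec.structureSheaf R).presheaf.stalk P) P.asIdeal)
    rw [IsLocalization.AtPrime.ringKrullDim_eq_height P.asIdeal, ← hdR, ← maximalIdeal_height_eq_ringKrullDim,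
      WithBot.coe_le_coe] at hP1
    refine Classical.not_not.1 fun hne => ?_
    exact not_lt.2 hP1 (Ideal.height_strict_mono_of_isPrime (lt_of_le_of_ne
      (IsLocalRing.le_maximalIdeal P.isPrime.ne_top) fun h => hne (PrimeSpectrum.ext h)))
  obtain ⟨-, ⟨e⟩⟩ := EtPurEqLib.purity k c R t (IsRegularLocalRing.of_ringEquiv eκ.symm)
    (by rw [ringKrullDim_eq_of_ringEquiv eκ, ringKrullDim_eq_zero_of_field, zero_add, hdR]) b hrange ℓ hℓk
  obtain ⟨m, hm⟩ : ∃ m, 2 * c = m + 1 := ⟨2 * c - 1, by omega⟩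
  obtain ⟨-, hq⟩ := Groth.Agent.S6658.result j (EtCoh.const X (ZMod ℓ))
  obtain ⟨ej⟩ := hq m (by omega)
  have hz : IsZero ((EtCoh.Rpush j m).obj ((EtCoh.pull j).obj (EtCoh.const X (ZMod ℓ)))) :=
    (h (m + 1) (by omega)).of_iso ej
  obtain ⟨es⟩ := Groth.Agent.S0620.result j ((EtCoh.pull j).obj (EtCoh.const X (ZMod ℓ))) y R m
  have hS : Subsingleton (EtCoh.H (pullback j g)
      ((EtCoh.pull (pullback.fst j g)).obj ((EtCoh.pull j).obj (EtCoh.const X (ZMod ℓ)))) m) :=
    AddCommGrpCat.subsingleton_of_isZero (((EtCoh.stalk (Hens2.geomPt X y R)).map_isZero hz).of_iso es.symm)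
  obtain ⟨e0⟩ := nonempty_HY_glob R b (EtCoh.const Xs (ZMod ℓ)) (m + 1)
  obtain ⟨-, hq'⟩ := Groth.Agent.S6658.result b (EtCoh.const Xs (ZMod ℓ))
  obtain ⟨e1⟩ := hq' m (by omega)
  obtain ⟨e2⟩ := nonempty_H_glob R b ((EtCoh.pull b).obj (EtCoh.const Xs (ZMod ℓ))) m
  let cA := (EtCoh.pull (pullback.fst j g)).mapIso (EtCore.pullConst j (ZMod ℓ)) ≪≫
    EtCore.pullConst (pullback.fst j g) (ZMod ℓ) ≪≫ (EtCore.pullConst b (ZMod ℓ)).symm
  have hS' : Subsingleton (EtCoh.H (pullback j g) ((EtCoh.pull b).obj (EtCoh.const Xs (ZMod ℓ))) m) :=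
    ((EtCoh.HF (pullback j g) m).mapIso cA).addCommGroupIsoToAddEquiv.toEquiv.subsingleton_congr.1 hS
  rw [hm] at e
  have hM : IsZero M := (@AddCommGrpCat.isZero_of_subsingleton _ hS').of_iso
    (e.symm ≪≫ e0 ≪≫ (glob Xs).mapIso e1.symm ≪≫ e2.symm)
  haveI := AddCommGrpCat.subsingleton_of_isZero hM
  exact not_subsingleton (ULift.{u + 1} (ZMod ℓ)) ‹_›


/-- Every field contains a perfect field. -/
theorem exists_base (K : Type u) [Field K] :
    ∃ (k : Type u) (_ : Field k) (_ : PerfectField k), Nonempty (k →+* K) := by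
  obtain ⟨P, hP, -⟩ := CohenLib.exists_perfect_subfield K
  exact ⟨P, inferInstance, hP, ⟨P.subtype⟩⟩

theorem natCast_base {k K : Type u} [Field k] [Field K] (φ : k →+* K) {n : ℕ} (hn : (n : K) ≠ 0) : (n : k) ≠ 0 :=
  fun h => hn (by rw [← map_natCast φ, h, map_zero])

/-- Schemes smooth over a field have regular local rings. -/
theorem regular_smooth {K : Type u} [Field K] {X : Scheme.{u}} (f : X ⟶ Spec (CommRingCat.of K)) [Smooth f] :
    IsLocallyNoetherian X ∧ ∀ x : X, IsRegularLocalRing (X.presheaf.stalk x) := by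
  haveI : IsLocallyNoetherian X := LocallyOfFiniteType.isLocallyNoetherian f
  refine ⟨inferInstance, fun x => ?_⟩
  haveI := EtPurLib.isRegularLocalRing_stalk K (f x)
  exact BlowUpLib.isRegularLocalRing_stalk_of_smooth f x

end EtPurEqLib
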