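import Groth.Agent.EtPurEqLib.Chain
import Groth.Agent.EtPurLib.Pair
import Groth.Prelude.Def_EGA4b
import Groth.Agent.GRingLib.Excellent

/-!
# Regular pairs are locally cut out by regular chains
-/

set_option autoImplicit false
set_option linter.all false
set_option backward.isDefEq.respectTransparency false
set_option backward.isDefEq.respectTransparency.types false
set_option synthInstance.maxHeartbeats 400000
set_option maxHeartbeats 1600000

universe u

open IsLocalRing Groth.Agent EtPurLib

noncomputable section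

namespace EtPurEqLib

/-- A localisation of a quotient. -/
theorem isLocalization_quot {A A' : Type u} [CommRing A] [CommRing A'] [Algebra A A'] (M : Submonoid A)
    [IsLocalization M A'] (I : Ideal A) :
    letI : Algebra (A ⧸ I) (A' ⧸ I.map (algebraMap A A')) :=
      (Ideal.quotientMap (I.map (algebraMap A A')) (algebraMap A A') Ideal.le_comap_map).toAlgebra
    IsLocalization (M.map (Ideal.Quotient.mk I)) (A' ⧸ I.map (algebraMap A A')) := by
  letI : Algebra (A ⧸ I) (A' ⧸ I.map (algebraMap A A')) :=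
    (Ideal.quotientMap (I.map (algebraMap A A')) (algebraMap A A') Ideal.le_comap_map).toAlgebra
  have ha : ∀ a : A, algebraMap (A ⧸ I) (A' ⧸ I.map (algebraMap A A')) (Ideal.Quotient.mk I a) =
      Ideal.Quotient.mk _ (algebraMap A A' a) := fun a => rfl
  refine (isLocalization_iff _ _).2 ⟨?_, fun z => ?_, fun {x y} h => ?_⟩
  · rintro ⟨_, m, hm, rfl⟩
    exact (IsLocalization.map_units A' ⟨m, hm⟩).map (Ideal.Quotient.mk (I.map (algebraMap A A')))
  · obtain ⟨z, rfl⟩ := Ideal.Quotient.mk_surjective z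
    obtain ⟨⟨a, s⟩, hs⟩ := IsLocalization.surj M z
    refine ⟨(Ideal.Quotient.mk I a, ⟨Ideal.Quotient.mk I s, _, s.2, rfl⟩), ?_⟩
    rw [ha, ha, ← map_mul, hs]
  · obtain ⟨x, rfl⟩ := Ideal.Quotient.mk_surjective x
    obtain ⟨y, rfl⟩ := Ideal.Quotient.mk_surjective y
    rw [ha, ha, Ideal.Quotient.eq, ← map_sub, IsLocalization.algebraMap_mem_map_algebraMap_iff M] at h
    obtain ⟨m, hm, hmI⟩ := h
    refine ⟨⟨_, m, hm, rfl⟩, ?_⟩
    show Ideal.Quotient.mk I m * _ = Ideal.Quotient.mk I m * _
    rw [← map_mul, ← map_mul, Ideal.Quotient.eq, ← mul_sub]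
    exact hmI

/-- Localisations inside the regular locus are regular. -/
theorem regular_of_locus {A : Type u} [CommRing A] [IsNoetherianRing A] (f : A)
    (hf : (PrimeSpectrum.basicOpen f : Set (PrimeSpectrum A)) ⊆ EGA4.regLocus A)
    (A' : Type u) [CommRing A'] [Algebra A A'] (M : Submonoid A) [IsLocalization M A'] (hfM : f ∈ M) :
    IsRegularRing A' := by
  haveI : IsNoetherianRing A' := IsLocalization.isNoetherianRing M A' inferInstance
  refine isRegularRing_iff.2 fun Q hQ => ?_
  haveI := hQ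
  have hfQ : f ∉ Q.comap (algebraMap A A') := fun h =>
    hQ.ne_top (Ideal.eq_top_of_isUnit_mem _ h (IsLocalization.map_units A' ⟨f, hfM⟩))
  haveI : IsRegularLocalRing (Localization.AtPrime (Q.comap (algebraMap A A'))) :=
    hf (show (⟨Q.comap (algebraMap A A'), inferInstance⟩ : PrimeSpectrum A) ∈ PrimeSpectrum.basicOpen f from hfQ)
  haveI : IsLocalization.AtPrime (Localization.AtPrime Q) (Q.comap (algebraMap A A')) :=
    IsLocalization.isLocalization_isLocalization_atPrime_isLocalization M _ Q
  exact IsRegularLocalRing.of_ringEquiv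
    (IsLocalization.algEquiv (Q.comap (algebraMap A A')).primeCompl (Localization.AtPrime (Q.comap (algebraMap A A')))
      (Localization.AtPrime Q)).toRingEquiv

/-- Elements killed in a local ring are killed nearby. -/
theorem exists_kill {A : Type u} [CommRing A] (P : Ideal A) [P.IsPrime] (J : Ideal A) (hJ : J.FG)
    (h : J.map (algebraMap A (Localization.AtPrime P)) = ⊥) : ∃ f ∉ P, ∀ a ∈ J, f * a = 0 := by
  classical
  obtain ⟨s, rfl⟩ := hJ
  have : ∀ a ∈ s, ∃ m ∉ P, m * a = 0 := fun a ha => by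
    have h0 : algebraMap A (Localization.AtPrime P) a = 0 := by
      rw [← Ideal.mem_bot, ← h]; exact Ideal.mem_map_of_mem _ (Ideal.subset_span ha)
    obtain ⟨⟨m, hm⟩, hma⟩ := (IsLocalization.map_eq_zero_iff P.primeCompl _ a).1 h0
    exact ⟨m, hm, hma⟩
  choose! m hm hma using this
  refine ⟨∏ a ∈ s, m a, fun hP => ?_, fun a ha => ?_⟩
  · obtain ⟨a, ha, hmP⟩ := (‹P.IsPrime›).prod_mem_iff.1 hP
    exact hm a ha hmP
  · refine Submodule.span_induction (fun b hb => ?_) (mul_zero _) (fun b c _ _ hb hc => by rw [mul_add, hb, hc, add_zero])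
      (fun r b _ hb => by rw [smul_eq_mul, mul_left_comm, hb, mul_zero]) ha
    rw [← Finset.mul_prod_erase s m hb, mul_comm (m b), mul_assoc, hma b hb, mul_zero]

/-- Regular pairs are locally chains. -/
theorem exists_chain : ∀ (c : ℕ) (A : Type u) [CommRing A] [IsNoetherianRing A] (hJ2 : EGA4.IsJ2 A) (I P : Ideal A)
    [P.IsPrime] (hIP : I ≤ P) [IsRegularLocalRing (Localization.AtPrime P)]
    [IsRegularLocalRing (Localization.AtPrime P ⧸ I.map (algebraMap A (Localization.AtPrime P)))]
    (hdim : ringKrullDim (Localization.AtPrime P) =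
      ringKrullDim (Localization.AtPrime P ⧸ I.map (algebraMap A (Localization.AtPrime P))) + c),
    ∃ f ∉ P, ∃ y : Fin c → A, ∀ (A' : Type u) [CommRing A'] [Algebra A A'] (M : Submonoid A) [IsLocalization M A'],
      f ∈ M → Chain c A' (algebraMap A A' ∘ y) ∧
        Ideal.span (Set.range (algebraMap A A' ∘ y)) = I.map (algebraMap A A') := by
  intro c
  induction c with
  | zero =>
    intro A _ _ hJ2 I P _ hIP _ _ hdim
    let L := Localization.AtPrime P
    have hI0 : I.map (algebraMap A L) = ⊥ := by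
      by_contra hne
      have hlt := CommAlgDim.ringKrullDim_quotient_lt hne
      rw [hdim, Nat.cast_zero, add_zero] at hlt
      exact lt_irrefl _ hlt
    obtain ⟨f₁, hf₁, hkill⟩ := exists_kill P I (IsNoetherian.noetherian _) hI0
    have hreg : (⟨P, inferInstance⟩ : PrimeSpectrum A) ∈ EGA4.regLocus A := ‹IsRegularLocalRing L›
    obtain ⟨_, ⟨f₂, rfl⟩, hPf, hsub⟩ := PrimeSpectrum.isTopologicalBasis_basic_opens.exists_subset_of_mem_open hreg
      (hJ2 A inferInstance)
    refine ⟨f₁ * f₂, fun h => ((‹P.IsPrime›).mem_or_mem h).elim hf₁ hPf, Fin.elim0, fun A' _ _ M _ hfM => ⟨?_, ?_⟩⟩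
    · exact regular_of_locus (f₁ * f₂) (fun Q hQ => hsub (by
        have hQ' : f₁ * f₂ ∉ Q.asIdeal := hQ
        exact fun h => hQ' (Q.asIdeal.mul_mem_left _ h))) A' M hfM
    · rw [Set.range_eq_empty, Ideal.span_empty, eq_comm, eq_bot_iff, Ideal.map_le_iff_le_comap]
      intro a ha
      have hu : IsUnit (algebraMap A A' f₁) :=
        isUnit_of_mul_isUnit_left ((map_mul (algebraMap A A') f₁ f₂) ▸ IsLocalization.map_units A' ⟨_, hfM⟩)
      exact Ideal.mem_bot.2 ((hu.mul_right_eq_zero).1 (by rw [← map_mul, hkill a ha, map_zero]))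
  | succ c IH =>
    intro A _ _ hJ2 I P _ hIP _ _ hdim
    let L := Localization.AtPrime P
    let J := I.map (algebraMap A L)
    have hJne : J ≠ ⊥ := fun h => by
      obtain ⟨d, hd⟩ := CommAlgDim.exists_ringKrullDim_eq (R := L ⧸ J)
      have he : ringKrullDim (L ⧸ J) = ringKrullDim L :=
        ringKrullDim_eq_of_ringEquiv ((Ideal.quotEquivOfEq h).trans (RingEquiv.quotientBot L))
      rw [← he, hd] at hdim
      norm_cast at hdim
      omega
    obtain ⟨a, haI, ha2⟩ : ∃ a ∈ I, algebraMap A L a ∉ maximalIdeal L ^ 2 := by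
      by_contra hc
      push Not at hc
      exact CommAlgDim.not_le_sq_of_regular_quotient hJne (Ideal.map_le_iff_le_comap.2 hc)
    have ham : algebraMap A L a ∈ maximalIdeal L := (IsLocalization.AtPrime.to_map_mem_maximal_iff L P a).2 (hIP haI)
    let I₀ := Ideal.span {a}
    let B := A ⧸ I₀
    let π := Ideal.Quotient.mk I₀
    have hI₀P : I₀ ≤ P := (Ideal.span_singleton_le_iff_mem _).2 (hIP haI)
    let Q := P.map π
    haveI : Q.IsPrime := Ideal.map_isPrime_of_surjective Ideal.Quotient.mk_surjective (by rwa [Ideal.mk_ker])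
    have hQ : Q.comap π = P := by
      rw [Ideal.comap_map_of_surjective' _ Ideal.Quotient.mk_surjective, Ideal.mk_ker, sup_eq_left]
      exact hI₀P
    let LB := Localization.AtPrime Q
    haveI := CommAlgDim.isRegularLocalRing_quotient_singleton ham ha2
    -- the local ring of the quotient
    let φ : A →+* LB := (algebraMap B LB).comp π
    obtain ⟨e₀⟩ := localization_quotient a P (hIP haI) L LB Q hQ
    have hun : ∀ s : P.primeCompl, IsUnit (φ s) := fun s =>
      IsLocalization.map_units LB (⟨_, fun h => s.2 (hQ.le h)⟩ : Q.primeCompl)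
    let Φ : L →+* LB := IsLocalization.lift (M := P.primeCompl) hun
    have hΦ : ∀ b, Φ (algebraMap A L b) = algebraMap B LB (π b) := fun b => IsLocalization.lift_eq hun b
    have hΦs : Function.Surjective Φ := by
      intro z
      obtain ⟨b, ⟨s, hs⟩, rfl⟩ := IsLocalization.exists_mk'_eq Q.primeCompl z
      obtain ⟨b, rfl⟩ := Ideal.Quotient.mk_surjective b
      obtain ⟨s, rfl⟩ := Ideal.Quotient.mk_surjective s
      refine ⟨IsLocalization.mk' L b (⟨s, fun h => hs (hQ.ge h)⟩ : P.primeCompl), ?_⟩
      show IsLocalization.lift (M := P.primeCompl) hun _ = _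
      rw [IsLocalization.lift_mk'_spec, mul_comm]
      exact (IsLocalization.mk'_spec LB _ (⟨π s, hs⟩ : Q.primeCompl)).symm
    have hker : RingHom.ker Φ ≤ J := by
      intro z hz
      obtain ⟨b, s, rfl⟩ := IsLocalization.exists_mk'_eq P.primeCompl z
      rw [RingHom.mem_ker, IsLocalization.lift_mk'_spec, mul_zero] at hz
      obtain ⟨⟨m, hm⟩, hmb⟩ := (IsLocalization.map_eq_zero_iff Q.primeCompl LB _).1 hz
      obtain ⟨m, rfl⟩ := Ideal.Quotient.mk_surjective m
      have hmb' : π (m * b) = 0 := by rw [map_mul]; exact hmb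
      rw [Ideal.Quotient.eq_zero_iff_mem] at hmb'
      rw [IsLocalization.mk'_eq_mul_mk'_one]
      refine Ideal.mul_mem_right _ _ ?_
      have hu : IsUnit (algebraMap A L m) := IsLocalization.map_units L (⟨m, fun h => hm (hQ.ge h)⟩ : P.primeCompl)
      rw [← Ideal.unit_mul_mem_iff_mem _ hu, ← map_mul]
      exact Ideal.mem_map_of_mem _ ((Ideal.span_singleton_le_iff_mem _).2 haI hmb')
    have hJB : J.map Φ = (I.map π).map (algebraMap B LB) := by
      rw [Ideal.map_map, Ideal.map_map]
      exact congrArg (fun t : A →+* LB => I.map t) (RingHom.ext hΦ)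
    let eJ : L ⧸ J ≃+* LB ⧸ (I.map π).map (algebraMap B LB) :=
      RingEquiv.ofBijective (Ideal.quotientMap ((I.map π).map (algebraMap B LB)) Φ
        (Ideal.map_le_iff_le_comap.1 hJB.le))
        ⟨Ideal.quotientMap_injective' (by
          rw [← hJB, Ideal.comap_map_of_surjective' _ hΦs]; exact sup_le le_rfl hker),
        Ideal.quotientMap_surjective hΦs⟩
    haveI : IsRegularLocalRing LB := IsRegularLocalRing.of_ringEquiv e₀
    haveI : IsRegularLocalRing (LB ⧸ (I.map π).map (algebraMap B LB)) := IsRegularLocalRing.of_ringEquiv eJ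
    have hx0 : algebraMap A L a ≠ 0 := fun h => ha2 (h ▸ zero_mem _)
    have hdB : ringKrullDim LB = ringKrullDim (LB ⧸ (I.map π).map (algebraMap B LB)) + (c : ℕ) := by
      have h1 := ringKrullDim_quotient_span_singleton_succ_eq_ringKrullDim
        (CommAlgDim.isSMulRegular_of_ne_zero (R := L) hx0) ham
      rw [ringKrullDim_eq_of_ringEquiv e₀] at h1
      have h2 : ringKrullDim (L ⧸ J) = ringKrullDim (LB ⧸ (I.map π).map (algebraMap B LB)) :=
        ringKrullDim_eq_of_ringEquiv eJ
      rw [← h2]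
      obtain ⟨p, hp⟩ := CommAlgDim.exists_ringKrullDim_eq (R := L ⧸ J)
      obtain ⟨q, hq⟩ := CommAlgDim.exists_ringKrullDim_eq (R := LB)
      rw [hdim, hp, hq] at h1
      rw [hp, hq]
      norm_cast at h1 ⊢
      omega
    obtain ⟨g, hg, y', hy'⟩ := IH B (GRingLib.isJ2_of_finiteType A B hJ2) (I.map π) Q (Ideal.map_mono hIP) hdB
    obtain ⟨g, rfl⟩ := Ideal.Quotient.mk_surjective g
    choose y hy using fun k => Ideal.Quotient.mk_surjective (y' k)
    -- shrinking
    have hreg : (⟨P, inferInstance⟩ : PrimeSpectrum A) ∈ EGA4.regLocus A := ‹IsRegularLocalRing L›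
    obtain ⟨_, ⟨f₂, rfl⟩, hPf, hsub⟩ := PrimeSpectrum.isTopologicalBasis_basic_opens.exists_subset_of_mem_open hreg
      (hJ2 A inferInstance)
    have hann : ((⊥ : Ideal A).colon ({a} : Set A)).map (algebraMap A L) = ⊥ := by
      rw [eq_bot_iff, Ideal.map_le_iff_le_comap]
      intro b hb
      rw [Submodule.mem_colon] at hb
      have hb0 : b * a = 0 := by simpa using hb a rfl
      haveI := CommAlgDim.isDomain_of_isRegularLocalRing L
      have : algebraMap A L b * algebraMap A L a = 0 := by rw [← map_mul, hb0, map_zero]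
      exact Ideal.mem_bot.2 ((mul_eq_zero.1 this).resolve_right hx0)
    obtain ⟨f₁, hf₁, hkill⟩ := exists_kill P _ (IsNoetherian.noetherian _) hann
    refine ⟨f₁ * f₂ * g, fun h => ((‹P.IsPrime›).mem_or_mem h).elim
      (fun h => ((‹P.IsPrime›).mem_or_mem h).elim hf₁ hPf) (fun h => hg (Ideal.mem_map_of_mem π h)),
      Fin.cons a y, fun A' _ _ M _ hfM => ?_⟩
    have hu := IsLocalization.map_units A' ⟨_, hfM⟩
    simp only [map_mul] at hu
    have hu12 := isUnit_of_mul_isUnit_left hu
    have hug : IsUnit (algebraMap A A' g) := isUnit_of_mul_isUnit_right hu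
    have hu1 : IsUnit (algebraMap A A' f₁) := isUnit_of_mul_isUnit_left hu12
    have hnzd : algebraMap A A' a ∈ nonZeroDivisors A' := by
      rw [mem_nonZeroDivisors_iff_right]
      intro z hz
      obtain ⟨b, s, rfl⟩ := IsLocalization.exists_mk'_eq M z
      have h0 : algebraMap A A' (b * a) = 0 := by
        rw [map_mul, ← IsLocalization.mk'_spec A' b s, mul_right_comm, hz, zero_mul]
      obtain ⟨⟨m, hm⟩, hma⟩ := (IsLocalization.map_eq_zero_iff M A' _).1 h0
      have hk : f₁ * (m * b) = 0 := hkill _ (by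
        rw [Submodule.mem_colon]
        rintro _ rfl
        simpa [mul_assoc] using hma)
      rw [IsLocalization.mk'_eq_zero_iff]
      have h3 : algebraMap A A' (m * b) = 0 := (hu1.mul_right_eq_zero).1 (by rw [← map_mul, hk, map_zero])
      rw [map_mul] at h3
      have h4 : algebraMap A A' b = 0 := ((IsLocalization.map_units A' ⟨m, hm⟩).mul_right_eq_zero).1 h3
      obtain ⟨⟨m', hm'⟩, h5⟩ := (IsLocalization.map_eq_zero_iff M A' b).1 h4
      exact ⟨⟨m', hm'⟩, h5⟩
    have hA' : IsRegularRing A' := regular_of_locus (f₁ * f₂ * g) (fun Z hZ => hsub (by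
      have hZ' : f₁ * f₂ * g ∉ Z.asIdeal := hZ
      exact fun h => hZ' (Z.asIdeal.mul_mem_right _ (Z.asIdeal.mul_mem_left _ h)))) A' M hfM
    let I' := I₀.map (algebraMap A A')
    have hI' : I' = Ideal.span {algebraMap A A' a} := by
      show (Ideal.span {a}).map _ = _
      rw [Ideal.map_span, Set.image_singleton]
    let B' := A' ⧸ Ideal.span {algebraMap A A' a}
    letI : Algebra B B' := (Ideal.quotientMap (Ideal.span {algebraMap A A' a}) (algebraMap A A')
      (Ideal.map_le_iff_le_comap.1 hI'.le)).toAlgebra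
    let M' : Submonoid B := (M ⊔ Submonoid.powers g).map π
    haveI : IsLocalization (M.map π) B' := by
      have h := isLocalization_quot (A' := A') M I₀
      letI : Algebra B (A' ⧸ I₀.map (algebraMap A A')) :=
        (Ideal.quotientMap (I₀.map (algebraMap A A')) (algebraMap A A') Ideal.le_comap_map).toAlgebra
      haveI := h
      let e : (A' ⧸ I') ≃ₐ[B] B' := AlgEquiv.ofRingEquiv (f := Ideal.quotEquivOfEq hI') (fun b => by
        obtain ⟨b, rfl⟩ := Ideal.Quotient.mk_surjective b
        rfl)
      exact IsLocalization.isLocalization_of_algEquiv _ e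
    haveI : IsLocalization M' B' := by
      refine IsLocalization.of_le (M.map π) M' (Submonoid.monotone_map le_sup_left) ?_
      rintro _ ⟨w, hw, rfl⟩
      obtain ⟨m, hm, p, ⟨i, rfl⟩, rfl⟩ := Submonoid.mem_sup.1 hw
      show IsUnit (Ideal.Quotient.mk (Ideal.span {algebraMap A A' a}) (algebraMap A A' (m * g ^ i)))
      rw [map_mul (algebraMap A A'), map_pow]
      exact ((IsLocalization.map_units A' ⟨m, hm⟩).mul (hug.pow i)).map _
    obtain ⟨hch, hsp⟩ := hy' B' M' ⟨g, Submonoid.mem_sup_right (Submonoid.mem_powers g), rfl⟩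
    have hcomp : (Ideal.Quotient.mk (Ideal.span {algebraMap A A' a}) ∘ (algebraMap A A' ∘ Fin.cons a y) ∘ Fin.succ :
        Fin c → B') = algebraMap B B' ∘ y' := funext fun k => by
      simp only [Function.comp_apply, Fin.cons_succ, ← hy k]
      rfl
    refine ⟨⟨hA', by simpa using hnzd, ?_⟩, ?_⟩
    · simp only [Function.comp_apply, Fin.cons_zero]
      exact hcomp ▸ hch
    · refine le_antisymm (Ideal.span_le.2 ?_) ?_
      · rintro _ ⟨k, rfl⟩
        refine Fin.cases (Ideal.mem_map_of_mem _ haI) (fun k => ?_) k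
        have hk' : algebraMap B B' (y' k) ∈ (I.map π).map (algebraMap B B') := hsp ▸ Ideal.subset_span ⟨k, rfl⟩
        rw [← hy k, Ideal.map_map] at hk'
        have hk2 : Ideal.Quotient.mk (Ideal.span {algebraMap A A' a}) (algebraMap A A' (y k)) ∈
            (I.map (algebraMap A A')).map (Ideal.Quotient.mk (Ideal.span {algebraMap A A' a})) := by
          rw [Ideal.map_map]; exact hk'
        rw [← Ideal.mem_comap, Ideal.comap_map_of_surjective' _ Ideal.Quotient.mk_surjective, Ideal.mk_ker] at hk2
        refine (sup_le le_rfl ((Ideal.span_singleton_le_iff_mem _).2 (Ideal.mem_map_of_mem _ haI)) : _ ≤ I.map (algebraMap A A')) hk2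
      · rw [Ideal.map_le_iff_le_comap]
        intro b hb
        have hb1 : algebraMap B B' (π b) ∈ (I.map π).map (algebraMap B B') :=
          Ideal.mem_map_of_mem _ (Ideal.mem_map_of_mem _ hb)
        rw [← hsp, ← hcomp] at hb1
        let S := Ideal.span (Set.range (algebraMap A A' ∘ Fin.cons a y))
        have hle : Ideal.span (Set.range (Ideal.Quotient.mk (Ideal.span {algebraMap A A' a}) ∘
            (algebraMap A A' ∘ Fin.cons a y) ∘ Fin.succ)) ≤ S.map (Ideal.Quotient.mk _) := by
          rw [Ideal.span_le]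
          rintro _ ⟨k, rfl⟩
          exact Ideal.mem_map_of_mem _ (Ideal.subset_span ⟨k.succ, rfl⟩)
        have hb2 : algebraMap A A' b ∈ (S.map (Ideal.Quotient.mk (Ideal.span {algebraMap A A' a}))).comap
            (Ideal.Quotient.mk _) := hle hb1
        rw [Ideal.comap_map_of_surjective' _ Ideal.Quotient.mk_surjective, Ideal.mk_ker] at hb2
        refine (sup_le le_rfl ((Ideal.span_singleton_le_iff_mem _).2 (Ideal.subset_span ⟨0, rfl⟩)) : _ ≤ S) hb2

end EtPurEqLib
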