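import Groth.Agent.EtPurEqLib.Punct
import Groth.Agent.EtPurLib.Sheaf

/-!
# Purity for regular pairs over a perfect field
-/

set_option autoImplicit false
set_option linter.all false
set_option backward.isDefEq.respectTransparency false
set_option backward.isDefEq.respectTransparency.types false
set_option synthInstance.maxHeartbeats 400000
set_option maxHeartbeats 1600000

universe u

open CategoryTheory CategoryTheory.Limits AlgebraicGeometry Opposite IsLocalRing
open Groth.Agent Groth.Agent.EtShLib EtLocCohLib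

noncomputable section

namespace EtPurEqLib

open EtPurLib


variable (k : Type u) [Field k] [PerfectField k]

/-- Cohomology of the complement in a strictly henselian scheme. -/
theorem subsingleton_H_compl (A : Type u) [CommRing A] [IsRegularLocalRing A] [HenselianLocalRing A]
    [IsSepClosed (ResidueField A)] [Algebra k A] (c : ℕ) (y : Fin c → A)
    (hreg : IsRegularLocalRing (A ⧸ Ideal.span (Set.range y)))
    (hdim : ringKrullDim (A ⧸ Ideal.span (Set.range y)) + (c : ℕ) = ringKrullDim A)
    {U : Scheme.{u}} (j : U ⟶ Spec (CommRingCat.of A)) [IsOpenImmersion j]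
    (hj : Set.range j.base = (PrimeSpectrum.zeroLocus (Set.range y))ᶜ) (n : ℕ) (hnk : (n : k) ≠ 0)
    (p : ℕ) (hp0 : p ≠ 0) (hp : p ≠ 2 * c - 1) :
    Subsingleton (EtCoh.H U (EtCoh.const U (ZMod n)) p) := by
  let X := Spec (CommRingCat.of A)
  obtain ⟨h1, -⟩ := EtPurEqLib.purity k c A y hreg hdim j hj n hnk
  obtain ⟨e0⟩ := nonempty_HY_glob A j (EtCoh.const X (ZMod n)) (p + 1)
  obtain ⟨-, h⟩ := Groth.Agent.S6658.result j (EtCoh.const X (ZMod n))
  obtain ⟨e1⟩ := h p (Nat.one_le_iff_ne_zero.2 hp0)
  obtain ⟨e2⟩ := nonempty_H_glob A j ((EtCoh.pull j).obj (EtCoh.const X (ZMod n))) p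
  have hz : IsZero (AddCommGrpCat.of (EtCoh.H U ((EtCoh.pull j).obj (EtCoh.const X (ZMod n))) p)) :=
    (h1 (p + 1) (by omega)).of_iso (e2 ≪≫ (glob X).mapIso e1 ≪≫ e0.symm)
  exact ((EtCoh.HF U p).mapIso (EtCore.pullConst j (ZMod n))).addCommGroupIsoToAddEquiv.toEquiv.subsingleton_congr.1
    (AddCommGrpCat.subsingleton_of_isZero hz)

variable {X Y U : Scheme.{u}} [IsLocallyNoetherian X] (qX : X ⟶ Spec (CommRingCat.of k))
  (hreg : ∀ x : X, IsRegularLocalRing (X.presheaf.stalk x)) (i : Y ⟶ X) [IsClosedImmersion i]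
  (hYreg : ∀ y : Y, IsRegularLocalRing (Y.presheaf.stalk y))
  (j : U ⟶ X) [IsOpenImmersion j] [EtCoh.BCCont j] (hij : Set.range j.base = (Set.range i.base)ᶜ)
  (c : ℕ) (hcodim : ∀ y : Y, ringKrullDim (X.presheaf.stalk (i.base y)) = ringKrullDim (Y.presheaf.stalk y) + c)

include qX hreg hYreg hij hcodim in
/-- Higher direct images off the critical degree. -/
theorem isZero_Rpush (n : ℕ) (hnk : (n : k) ≠ 0) (p : ℕ) (hp0 : p ≠ 0) (hp : p ≠ 2 * c - 1) :
    IsZero ((EtCoh.Rpush j p).obj ((EtCoh.pull j).obj (EtCoh.const X (ZMod n)))) := by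
  haveI : IsLocallyNoetherian U := LocallyOfFiniteType.isLocallyNoetherian j
  refine isZero_Rpush_of_strict j _ p fun x R _ _ _ _ _ _ _ hclosed => subsingleton_H_fibre_const j _ n p ?_
  by_cases hx : x ∈ Set.range j.base
  · exact subsingleton_H_over_open j x R _ hclosed hx n p (Nat.pos_of_ne_zero hp0)
  obtain ⟨y, rfl⟩ : x ∈ Set.range i.base := Classical.not_not.1 fun h => hx (hij.ge h)
  haveI := hreg (i.base y)
  haveI := hYreg y
  let g := Hens2.specOf X (i.base y) R
  let J := RingHom.ker (i.stalkMap y).hom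
  let eJ := RingHom.quotientKerEquivOfSurjective (i.stalkMap_surjective y)
  haveI : IsRegularLocalRing (X.presheaf.stalk (i.base y) ⧸ J) := IsRegularLocalRing.of_ringEquiv eJ.symm
  obtain ⟨t, ht, htreg, htdim⟩ := exists_params (R := R) J c
    (by rw [ringKrullDim_eq_of_ringEquiv eJ]; exact hcodim y)
  haveI : IsRegularLocalRing R := (Groth.Agent.S2743.result (X.presheaf.stalk (i.base y)) R).2 inferInstance
  letI : Algebra k R := (Spec.preimage (g ≫ qX)).hom.toAlgebra
  let b := pullback.snd j g
  have hrange : Set.range b.base = (PrimeSpectrum.zeroLocus (Set.range t))ᶜ := by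
    refine (IsOpenImmersion.range_pullbackSnd j g).trans ?_
    show g.base ⁻¹' Set.range j.base = _
    rw [hij, Set.preimage_compl, ← PrimeSpectrum.zeroLocus_span (Set.range t), ht]
    refine congrArg compl ?_
    show (Spec.map (CommRingCat.ofHom (algebraMap (X.presheaf.stalk (i.base y)) R))).base ⁻¹'
      ((X.fromSpecStalk (i.base y)).base ⁻¹' Set.range i.base) = _
    rw [preimage_range_fromSpecStalk i y]
    refine (PrimeSpectrum.preimage_comap_zeroLocus _ _).trans ?_
    rw [Ideal.map, PrimeSpectrum.zeroLocus_span]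
    rfl
  exact EtPurEqLib.subsingleton_H_compl k R c t htreg htdim b hrange n hnk p hp0 hp

include qX hreg hYreg hij hcodim in
/-- Purity: vanishing. -/
theorem isZero_locCoh (hc : 0 < c) (n : ℕ) (hnk : (n : k) ≠ 0) (q : ℕ) (hq : q ≠ 2 * c) :
    IsZero ((EtDual.locCoh j q).obj (EtCoh.const X (ZMod n))) := by
  have hn : 0 < n := Nat.pos_of_ne_zero fun h => hnk (by simp [h])
  haveI : NeZero n := ⟨hn.ne'⟩
  have hd := EtPurLib.denseRange_compl i j hij c hcodim hc
  let M := AddCommGrpCat.of (ULift.{u + 1} (ZMod n))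
  rcases q with _ | _ | p
  · haveI := EtLocCohLib.preservesFiniteLimits_secSupp j
    refine IsZero.of_iso ?_ ((EtDual.secSupp j).rightDerivedZeroIsoSelf.app _)
    rcases subsingleton_or_nontrivial (ZMod n) with h | h
    · refine Functor.map_isZero _ ((IsZero.iff_id_eq_zero _).2 ?_)
      have e := Groth.Agent.S4164.nsmul_id_const' X n
      have hn1 : n = 1 := by
        by_contra h1
        haveI : Fact (1 < n) := ⟨lt_of_le_of_ne hn (Ne.symm h1)⟩
        exact not_nontrivial (ZMod n) inferInstance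
      subst hn1
      rwa [one_smul] at e
    · exact (EtLocCohLib.isZero_secSupp_const_iff j M).2 hd
  · obtain ⟨⟨e⟩, -⟩ := Groth.Agent.S6658.result j (EtCoh.const X (ZMod n))
    refine IsZero.of_iso ?_ e.symm
    haveI : Finite (ToType M) := inferInstanceAs (Finite (ULift.{u + 1} (ZMod n)))
    haveI : IsIso (EtDual.unitApp j (EtCoh.const X (ZMod n))) := by
      refine EtLocCohLib.isIso_unit_of_clopenExt j M hd (clopenExt_normal j fun W w => ?_)
      let h : W.left ⟶ X := W.hom
      haveI : AlgebraicGeometry.Etale h := W.prop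
      haveI : IsRegularLocalRing (W.left.presheaf.stalk w) := (Groth.Agent.S0065.result h w).2 (hreg _)
      haveI := CommAlgDim.isDomain_of_isRegularLocalRing (W.left.presheaf.stalk w)
      exact ⟨inferInstance, NormalLib.isIntegrallyClosed_of_isRegularLocalRing _⟩
    exact isZero_cokernel_of_epi _
  · obtain ⟨-, h⟩ := Groth.Agent.S6658.result j (EtCoh.const X (ZMod n))
    obtain ⟨e⟩ := h (p + 1) (by omega)
    exact IsZero.of_iso (EtPurEqLib.isZero_Rpush k qX hreg i hYreg j hij c hcodim n hnk (p + 1) (by omega) (by omega)) e.symm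

end EtPurEqLib
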