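import Groth.Agent.EtPurEqLib.Exists
import Groth.Agent.EtPurEqLib.Exact
import Groth.Agent.EtBcQLib.Etale
import Groth.Agent.EtPunctLib.Alg
import Groth.Agent.AlgSpLib.TrdegInv
import Groth.Agent.S0065
import Mathlib.RingTheory.Polynomial.Cyclotomic.Basic
import Mathlib.RingTheory.LocalProperties.Reduced

/-!
# The top local cohomology sheaf of a regular pair, étale locally
-/

set_option autoImplicit false
set_option linter.all false
set_option backward.isDefEq.respectTransparency false
set_option backward.isDefEq.respectTransparency.types false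
set_option synthInstance.maxHeartbeats 400000
set_option maxHeartbeats 1600000

universe u

open CategoryTheory CategoryTheory.Limits AlgebraicGeometry Opposite IsLocalRing
open Groth.Agent Groth.Agent.EtShLib EtLocCohLib EtPurLib

noncomputable section

namespace EtPurEqLib

open Polynomial in
/-- A cyclotomic root after an étale extension. -/
theorem exists_root_etale {R : Type u} [CommRing R] {n : ℕ} (hn : IsUnit (n : R)) (h0 : 0 < n)
    (p : PrimeSpectrum R) :
    ∃ (S : Type u) (_ : CommRing S) (_ : Algebra R S), Algebra.Etale R S ∧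
      (∃ ζ : S, aeval ζ (cyclotomic n ℤ) = 0) ∧ ∃ q : PrimeSpectrum S, q.comap (algebraMap R S) = p := by
  haveI : Nontrivial R := p.nontrivial
  let f : R[X] := cyclotomic n R
  have hsep : f.Separable := by
    have h := separable_X_pow_sub_C_unit (1 : Rˣ) hn
    rw [Units.val_one, map_one] at h
    exact h.of_dvd (cyclotomic.dvd_X_pow_sub_one n R)
  obtain ⟨a, b, hab⟩ := hsep
  let P : StandardEtalePair R := ⟨f, cyclotomic.monic n R, 1, b, a, 0, by
    rw [pow_zero]; linear_combination hab⟩
  refine ⟨P.Ring, inferInstance, inferInstance, inferInstance, ⟨P.X, ?_⟩, ?_⟩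
  · have hX : aeval P.X f = 0 := P.hasMap_X.1
    rw [show f = (cyclotomic n ℤ).map (algebraMap ℤ R) from (map_cyclotomic n (algebraMap ℤ R)).symm,
      aeval_map_algebraMap] at hX
    exact hX
  · let K := AlgebraicClosure p.asIdeal.ResidueField
    let φ : R →+* K := (algebraMap p.asIdeal.ResidueField K).comp (algebraMap R p.asIdeal.ResidueField)
    have hdeg : (cyclotomic n K).degree ≠ 0 := (degree_cyclotomic_pos n K h0).ne'
    obtain ⟨z, hz⟩ := IsAlgClosed.exists_root (cyclotomic n K) hdeg
    letI : Algebra R K := φ.toAlgebra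
    have hm : P.HasMap z := ⟨by
      show aeval z f = 0
      rw [← map_cyclotomic n (algebraMap R K)] at hz
      rwa [IsRoot.def, eval_map_algebraMap] at hz, by simp [P]⟩
    refine ⟨⟨RingHom.ker (P.lift z hm).toRingHom, RingHom.ker_isPrime _⟩, PrimeSpectrum.ext ?_⟩
    show Ideal.comap (algebraMap R P.Ring) (RingHom.ker (P.lift z hm).toRingHom) = p.asIdeal
    rw [RingHom.comap_ker, show (P.lift z hm).toRingHom.comp (algebraMap R P.Ring) = φ from (P.lift z hm).comp_algebraMap]
    rw [RingHom.ker_comp_of_injective _ (algebraMap p.asIdeal.ResidueField K).injective,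
      Ideal.ker_algebraMap_residueField]

/-- Regular rings are reduced. -/
theorem isReduced_of_regular (A : Type u) [CommRing A] [IsRegularRing A] : IsReduced A := by
  refine isReduced_ofLocalizationMaximal A fun P hP => ?_
  haveI := hP
  haveI : IsDomain (Localization.AtPrime P) := CommAlgDim.isDomain_of_isRegularLocalRing _
  infer_instance

/-- The bottom of a chain is regular. -/
theorem Chain.regular_quot : ∀ {c : ℕ} {A : Type u} [CommRing A] {y : Fin c → A}, Chain c A y →
    IsRegularRing (A ⧸ Ideal.span (Set.range y))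
  | 0, A, _, y, h => by
    haveI : IsRegularRing A := h
    exact IsRegularRing.of_ringEquiv ((Ideal.quotEquivOfEq (show Ideal.span (Set.range y) = ⊥ by
      rw [Set.range_eq_empty y, Ideal.span_empty])).trans (RingEquiv.quotientBot A)).symm
  | c + 1, A, _, y, h => by
    obtain ⟨-, -, hrest⟩ := h
    haveI := hrest.regular_quot
    exact IsRegularRing.of_ringEquiv ((((Ideal.quotEquivOfEq (span_range_succ y)).trans
      (DoubleQuot.quotQuotEquivQuotSup _ _).symm).trans (Ideal.quotEquivOfEq (show
        (Ideal.span (Set.range (y ∘ Fin.succ))).map (Ideal.Quotient.mk (Ideal.span {y 0})) =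
          Ideal.span (Set.range (Ideal.Quotient.mk (Ideal.span {y 0}) ∘ y ∘ Fin.succ)) by
          rw [Ideal.map_span, ← Set.range_comp]))).symm)

/-- Nothing is supported on the empty set. -/
theorem isZero_locCoh_surjective {X U : Scheme.{u}} (j : U ⟶ X) [IsOpenImmersion j] [EtCoh.BCCont j]
    (hj : Function.Surjective j.base) (G : EtCoh.Ab X) (p : ℕ) : IsZero ((EtDual.locCoh j p).obj G) := by
  have h0 : ∀ F : EtCoh.Ab X, IsZero ((EtDual.secSupp j).obj F) := fun F => by
    rw [isZero_secSupp_iff]
    intro W s hs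
    have h := map_eq_zero_of_range_subset (iU j W) (𝟙 W) (by
      rw [range_iU, hj.range_eq, Set.preimage_univ]; exact Set.subset_univ _) hs
    simpa using h
  let I : InjectiveResolution G := injectiveResolution G
  let K := ((EtDual.secSupp j).mapHomologicalComplex (ComplexShape.up ℕ)).obj I.cocomplex
  exact (ShortComplex.isZero_homology_of_isZero_X₂ (K.sc p) (h0 _)).of_iso (I.isoRightDerivedObj (EtDual.secSupp j) p)

/-- A sheaf without sections is zero. -/
theorem isZero_of_sections {X : Scheme.{u}} (F : EtCoh.Ab X) (h : ∀ W : X.Etale, Subsingleton (F.obj.obj (op W))) :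
    IsZero F := by
  rw [IsZero.iff_id_eq_zero]
  ext W s
  exact (h W.unop).elim _ _

variable (k : Type u) [Field k] [PerfectField k]

/-- Étale locally, the top local cohomology sheaf is the constant sheaf on the closed subscheme. -/
theorem local_top {X Y U : Scheme.{u}} [IsLocallyNoetherian X] (qX : X ⟶ Spec (CommRingCat.of k))
    (hreg : ∀ x : X, IsRegularLocalRing (X.presheaf.stalk x)) (hJ2 : ∀ V : X.affineOpens, EGA4.IsJ2 Γ(X, V.1))
    (i : Y ⟶ X) [IsClosedImmersion i] [EtCoh.BCCont i] (hYreg : ∀ y : Y, IsRegularLocalRing (Y.presheaf.stalk y))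
    (j : U ⟶ X) [IsOpenImmersion j] [EtCoh.BCCont j] (hij : Set.range j.base = (Set.range i.base)ᶜ) (c : ℕ)
    (hcodim : ∀ y : Y, ringKrullDim (X.presheaf.stalk (i.base y)) = ringKrullDim (Y.presheaf.stalk y) + c)
    (n : ℕ) (hnk : (n : k) ≠ 0) (x : X) :
    ∃ (X' : Scheme.{u}) (g : X' ⟶ X) (_ : AlgebraicGeometry.Etale g) (x' : X'), g.base x' = x ∧
      Nonempty ((EtCoh.pull g).obj ((EtDual.locCoh j (2 * c)).obj (EtCoh.const X (ZMod n))) ≅
        (EtCoh.pull g).obj ((EtCoh.push i).obj (EtCoh.const Y (ZMod n)))) := by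
  have hn : 0 < n := Nat.pos_of_ne_zero fun h => hnk (by simp [h])
  haveI : IsLocallyNoetherian Y := LocallyOfFiniteType.isLocallyNoetherian i
  by_cases hx : x ∈ Set.range j.base
  · obtain ⟨u, rfl⟩ := hx
    haveI : AlgebraicGeometry.Etale j := inferInstance
    refine ⟨U, j, inferInstance, u, rfl, ⟨IsZero.iso ?_ ?_⟩⟩
    · obtain ⟨e⟩ := nonempty_locCoh_pull j j (𝟙 U) (by
        ext z; simp) (EtCoh.const X (ZMod n)) (2 * c)
      exact (isZero_locCoh_surjective (𝟙 U) (fun z => ⟨z, rfl⟩) _ _).of_iso e
    · haveI := jCont j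
      refine IsZero.of_iso (isZero_of_sections _ fun W => ?_) ((asIso (restrTheta j)).app _)
      haveI : IsEmpty ((EtCoh.bc i).obj ((EtShriek.compEtale j).obj W)).left := ⟨fun z => by
        let W' := (EtShriek.compEtale j).obj W
        have h : W'.hom.base ((pullback.fst W'.hom i).base z) = i.base ((pullback.snd W'.hom i).base z) :=
          congrArg (fun t : pullback W'.hom i ⟶ X => t.base z) pullback.condition
        have h1 : W'.hom.base ((pullback.fst W'.hom i).base z) ∈ Set.range j.base :=
          ⟨W.hom.base ((pullback.fst W'.hom i).base z), rfl⟩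
        exact hij.le h1 ⟨_, h.symm⟩⟩
      exact subsingleton_sect_of_isEmpty (EtCoh.const Y (ZMod n)) ((EtCoh.bc i).obj ((EtShriek.compEtale j).obj W))
  obtain ⟨y, rfl⟩ : x ∈ Set.range i.base := Classical.not_not.1 fun h => hx (hij.ge h)
  obtain ⟨_, ⟨V, hV, rfl⟩, hxV, -⟩ :=
    X.isBasis_affineOpens.exists_subset_of_mem_open (Set.mem_univ (i.base y)) isOpen_univ
  let A := Γ(X, V)
  haveI : IsNoetherianRing A := IsLocallyNoetherian.component_noetherian ⟨V, hV⟩
  letI : Algebra k A := (Spec.preimage (hV.fromSpec ≫ qX)).hom.toAlgebra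
  obtain ⟨S, _, _, hSet, ⟨ζ, hζ⟩, qS, hqS⟩ := exists_root_etale (R := A)
    (by simpa using (isUnit_iff_ne_zero.2 hnk).map (algebraMap k A)) hn (hV.primeIdealOf ⟨i.base y, hxV⟩)
  haveI := hSet
  haveI : IsNoetherianRing S := Algebra.FiniteType.isNoetherianRing A S
  letI : Algebra k S := ((algebraMap A S).comp (algebraMap k A)).toAlgebra
  let g : Spec (CommRingCat.of S) ⟶ X := Spec.map (CommRingCat.ofHom (algebraMap A S)) ≫ hV.fromSpec
  haveI : AlgebraicGeometry.Etale (Spec.map (CommRingCat.ofHom (algebraMap A S))) :=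
    (HasRingHomProperty.Spec_iff (P := @AlgebraicGeometry.Etale)).2 (RingHom.etale_algebraMap.2 hSet)
  haveI : AlgebraicGeometry.Etale g := inferInstanceAs (AlgebraicGeometry.Etale (_ ≫ _))
  have hgq : g.base qS = i.base y := by
    show hV.fromSpec.base ((Spec.map (CommRingCat.ofHom (algebraMap A S))).base qS) = _
    rw [show (Spec.map (CommRingCat.ofHom (algebraMap A S))).base qS = hV.primeIdealOf ⟨i.base y, hxV⟩ from hqS]
    exact hV.fromSpec_primeIdealOf ⟨_, hxV⟩
  -- the ideal of the pulled back closed subscheme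
  let iS := pullback.snd i g
  haveI : IsClosedImmersion iS := inferInstance
  obtain ⟨I, eI, heI⟩ := IsClosedImmersion.Spec_iff.1 ‹IsClosedImmersion iS›
  obtain ⟨w, -, hw⟩ := Scheme.Pullback.exists_preimage_pullback (f := i) (g := g) y qS hgq.symm
  let z : Spec (CommRingCat.of (S ⧸ I)) := eI.hom.base w
  have hzq : PrimeSpectrum.comap (Ideal.Quotient.mk I) z = qS := by
    rw [← hw]
    exact (congrArg (fun t => t.base w) heI).symm
  let P := qS.asIdeal
  have hIP : I ≤ P := by
    intro a ha
    rw [show P = Ideal.comap (Ideal.Quotient.mk I) z.asIdeal from (congrArg PrimeSpectrum.asIdeal hzq).symm]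
    show Ideal.Quotient.mk I a ∈ z.asIdeal
    rw [Ideal.Quotient.eq_zero_iff_mem.2 ha]
    exact zero_mem _
  let Ls := (Spec (CommRingCat.of S)).presheaf.stalk qS
  letI : Algebra S Ls := StructureSheaf.stalkAlgebra S qS
  haveI : IsLocalization.AtPrime Ls P :=
    inferInstanceAs (IsLocalization.AtPrime ((Spec.structureSheaf S).presheaf.stalk qS) qS.asIdeal)
  let L := Localization.AtPrime P
  let eL := (IsLocalization.algEquiv P.primeCompl Ls L).toRingEquiv
  haveI : IsRegularLocalRing Ls := (Groth.Agent.S0065.result g qS).2 (hreg _)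
  haveI : IsRegularLocalRing L := IsRegularLocalRing.of_ringEquiv eL
  let Ms := (Spec (CommRingCat.of (S ⧸ I))).presheaf.stalk z
  letI : Algebra (S ⧸ I) Ms := StructureSheaf.stalkAlgebra _ z
  haveI : IsLocalization.AtPrime Ms z.asIdeal :=
    inferInstanceAs (IsLocalization.AtPrime ((Spec.structureSheaf _).presheaf.stalk z) z.asIdeal)
  have hcompl : P.primeCompl.map (Ideal.Quotient.mk I) = z.asIdeal.primeCompl := by
    ext b
    constructor
    · rintro ⟨a, ha, rfl⟩ hb
      exact ha ((congrArg PrimeSpectrum.asIdeal hzq).le hb)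
    · intro hb
      obtain ⟨a, rfl⟩ := Ideal.Quotient.mk_surjective b
      exact ⟨a, fun ha => hb ((congrArg PrimeSpectrum.asIdeal hzq).ge ha), rfl⟩
  letI : Algebra (S ⧸ I) (L ⧸ I.map (algebraMap S L)) :=
    (Ideal.quotientMap (I.map (algebraMap S L)) (algebraMap S L) Ideal.le_comap_map).toAlgebra
  haveI : IsLocalization z.asIdeal.primeCompl (L ⧸ I.map (algebraMap S L)) :=
    hcompl ▸ isLocalization_quot (A' := L) P.primeCompl I
  let eM : Ms ≃+* L ⧸ I.map (algebraMap S L) :=
    (IsLocalization.algEquiv z.asIdeal.primeCompl Ms _).toRingEquiv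
  let t := pullback.fst i g
  let eW : Ms ≃+* (pullback i g).presheaf.stalk w := (asIso (eI.hom.stalkMap w)).commRingCatIsoToRingEquiv
  haveI : IsRegularLocalRing ((pullback i g).presheaf.stalk w) := (Groth.Agent.S0065.result t w).2 (hYreg _)
  haveI : IsRegularLocalRing (L ⧸ I.map (algebraMap S L)) := IsRegularLocalRing.of_ringEquiv (eW.symm.trans eM)
  have hdim : ringKrullDim L = ringKrullDim (L ⧸ I.map (algebraMap S L)) + (c : ℕ) := by
    rw [← ringKrullDim_eq_of_ringEquiv eL, AlgSpLib.ringKrullDim_stalk_etale g qS,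
      ← ringKrullDim_eq_of_ringEquiv (eW.symm.trans eM), AlgSpLib.ringKrullDim_stalk_etale t w]
    have hty : i.base (t.base w) = g.base qS := by
      rw [← hw]
      exact congrArg (fun s : pullback i g ⟶ X => s.base w) pullback.condition
    rw [← hty]
    exact hcodim _
  obtain ⟨f, hf, yS, hyS⟩ := exists_chain c S (GRingLib.isJ2_of_finiteType A S (hJ2 ⟨V, hV⟩)) I P hIP hdim
  let A' := Localization.Away f
  obtain ⟨hch, hsp⟩ := hyS A' (Submonoid.powers f) (Submonoid.mem_powers f)
  let y' : Fin c → A' := algebraMap S A' ∘ yS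
  let u : Spec (CommRingCat.of A') ⟶ Spec (CommRingCat.of S) := Spec.map (CommRingCat.ofHom (algebraMap S A'))
  haveI : IsOpenImmersion u := IsOpenImmersion.of_isLocalization f
  let g' := u ≫ g
  obtain ⟨q', hq'⟩ : qS ∈ Set.range u.base := by
    rw [show Set.range u.base = _ from PrimeSpectrum.localization_away_comap_range A' f]
    exact hf
  let i' : Spec (CommRingCat.of (A' ⧸ Ideal.span (Set.range y'))) ⟶ Spec (CommRingCat.of A') :=
    Spec.map (CommRingCat.ofHom (Ideal.Quotient.mk (Ideal.span (Set.range y'))))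
  have hzero : g'.base ⁻¹' Set.range i.base = PrimeSpectrum.zeroLocus (Set.range y') := by
    have h1 : g.base ⁻¹' Set.range i.base = PrimeSpectrum.zeroLocus (I : Set S) := by
      rw [← Scheme.Pullback.range_snd i g]
      show Set.range iS.base = _
      rw [heI, Scheme.Hom.comp_base, TopCat.coe_comp, Set.range_comp, (show Function.Surjective eI.hom.base from
        eI.hom.surjective).range_eq, Set.image_univ]
      exact (range_comap_of_surjective _ _ Ideal.Quotient.mk_surjective).trans (by rw [Ideal.mk_ker])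
    show u.base ⁻¹' (g.base ⁻¹' Set.range i.base) = _
    rw [h1]
    refine (PrimeSpectrum.preimage_comap_zeroLocus _ _).trans ?_
    rw [← PrimeSpectrum.zeroLocus_span, ← PrimeSpectrum.zeroLocus_span (Set.range y')]
    exact congrArg (fun J : Ideal A' => PrimeSpectrum.zeroLocus (J : Set A')) hsp.symm
  let W : (Spec (CommRingCat.of A')).Opens := g' ⁻¹ᵁ j.opensRange
  have hW : Set.range W.ι.base = g'.base ⁻¹' Set.range j.base := Scheme.Opens.range_ι W
  have hW' : Set.range W.ι.base = (PrimeSpectrum.zeroLocus (Set.range y'))ᶜ := by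
    rw [hW, hij, Set.preimage_compl, hzero]
  letI : Algebra k A' := ((algebraMap S A').comp (algebraMap k S)).toAlgebra
  obtain ⟨e1⟩ := chain_top k c A' y' hch n hnk (algebraMap S A' ζ) (MuConstLib.aeval_map _ hζ) W.ι hW'
  obtain ⟨e2⟩ := nonempty_locCoh_pull j g' W.ι hW (EtCoh.const X (ZMod n)) (2 * c)
  -- base change of the target
  let Y'' := pullback i g'
  let s := pullback.snd i g'
  haveI : IsClosedImmersion s := inferInstance
  haveI : IsIso (EtCoh.baseChange0 i g' s (pullback.fst i g') pullback.condition (EtCoh.const Y (ZMod n))) :=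
    EtBcQLib.isIso_bc0_etale i g' s (pullback.fst i g') (IsPullback.of_hasPullback i g') _
  let e3 : (EtCoh.pull g').obj ((EtCoh.push i).obj (EtCoh.const Y (ZMod n))) ≅
      (EtCoh.push s).obj (EtCoh.const Y'' (ZMod n)) :=
    asIso (EtCoh.baseChange0 i g' s (pullback.fst i g') pullback.condition (EtCoh.const Y (ZMod n))) ≪≫
      (EtCoh.push s).mapIso (EtCore.pullConst (pullback.fst i g') (ZMod n))
  obtain ⟨K, eK, heK⟩ := IsClosedImmersion.Spec_iff.1 ‹IsClosedImmersion s›
  have hK : K = Ideal.span (Set.range y') := by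
    have hz : PrimeSpectrum.zeroLocus (K : Set A') = PrimeSpectrum.zeroLocus (Set.range y') := by
      rw [← hzero, ← Scheme.Pullback.range_snd i g']
      show _ = Set.range s.base
      rw [heK, Scheme.Hom.comp_base, TopCat.coe_comp, Set.range_comp, (show Function.Surjective eK.hom.base from
        eK.hom.surjective).range_eq, Set.image_univ]
      exact ((range_comap_of_surjective _ _ Ideal.Quotient.mk_surjective).trans (by rw [Ideal.mk_ker])).symm
    haveI := hch.regular_quot
    have h1 : (Ideal.span (Set.range y')).IsRadical := by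
      haveI := isReduced_of_regular (A' ⧸ Ideal.span (Set.range y'))
      exact (Ideal.isRadical_iff_quotient_reduced _).2 inferInstance
    have h2 : K.IsRadical := by
      rw [Ideal.isRadical_iff_quotient_reduced]
      haveI : AlgebraicGeometry.IsReduced Y'' := by
        haveI : ∀ v : Y'', _root_.IsReduced (Y''.presheaf.stalk v) := fun v => by
          haveI : AlgebraicGeometry.Etale (pullback.fst i g') :=
            MorphismProperty.pullback_fst i g' (show AlgebraicGeometry.Etale g' from inferInstance)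
          haveI : IsRegularLocalRing (Y''.presheaf.stalk v) := (Groth.Agent.S0065.result (pullback.fst i g') v).2 (hYreg _)
          haveI := CommAlgDim.isDomain_of_isRegularLocalRing (Y''.presheaf.stalk v)
          infer_instance
        exact isReduced_of_isReduced_stalk _
      haveI : AlgebraicGeometry.IsReduced (Spec (CommRingCat.of (A' ⧸ K))) := isReduced_of_isOpenImmersion eK.inv
      exact (affine_isReduced_iff (CommRingCat.of (A' ⧸ K))).1 inferInstance
    rw [← h2.radical, ← h1.radical, ← PrimeSpectrum.vanishingIdeal_zeroLocus_eq_radical,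
      ← PrimeSpectrum.vanishingIdeal_zeroLocus_eq_radical, hz, PrimeSpectrum.zeroLocus_span]
  subst hK
  obtain ⟨e4⟩ := nonempty_push_iso eK.hom n
  refine ⟨_, g', inferInstance, q', ?_, ⟨e2 ≪≫ (EtDual.locCoh W.ι (2 * c)).mapIso (EtCore.pullConst g' (ZMod n)) ≪≫
    e1 ≪≫ (EtCoh.push i').mapIso e4.symm ≪≫ (EtCoh.pushComp i' eK.hom).app _ ≪≫ eqToIso (by rw [← heK]) ≪≫
    e3.symm⟩⟩
  show g.base (u.base q') = _
  rw [hq']
  exact hgq

end EtPurEqLib
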