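import Groth.Agent.EtShLib.PushStalk
import Groth.Agent.EtPurEqLib.Restr

/-!
# Sections over the part where a sheaf vanishes
-/

set_option autoImplicit false
set_option linter.all false
set_option backward.isDefEq.respectTransparency false
set_option backward.isDefEq.respectTransparency.types false
set_option synthInstance.maxHeartbeats 400000

universe u

open CategoryTheory CategoryTheory.Limits AlgebraicGeometry Opposite
open Groth.Agent Groth.Agent.EtShLib

noncomputable section

namespace EtPurEqLib

/-- Sections over the open where a sheaf vanishes. -/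
theorem subsingleton_of_pull_zero {X U : Scheme.{u}} (j : U ⟶ X) [IsOpenImmersion j] (F : EtCoh.Ab X)
    (h : IsZero ((EtCoh.pull j).obj F)) (W : X.Etale) (hW : Set.range W.hom.base ⊆ Set.range j.base) :
    Subsingleton (F.obj.obj (op W)) := by
  haveI : AlgebraicGeometry.Etale j := inferInstance
  haveI := jCont j
  let r : W.left ⟶ U := IsOpenImmersion.lift j W.hom hW
  have hr : r ≫ j = W.hom := IsOpenImmersion.lift_fac _ _ _
  haveI : AlgebraicGeometry.Etale W.hom := W.prop
  haveI : AlgebraicGeometry.Etale (r ≫ j) := by rw [hr]; infer_instance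
  haveI : AlgebraicGeometry.Etale r := AlgebraicGeometry.Etale.of_comp r j
  let W' : U.Etale := Scheme.Etale.mk r
  have h' : IsZero ((EtShriek.restrAlong j).obj F) := h.of_iso ((asIso (restrTheta j)).app F).symm
  have hs : Subsingleton (F.obj.obj (op ((EtShriek.compEtale j).obj W'))) :=
    AddCommGrpCat.subsingleton_of_isZero (Functor.map_isZero (sheafToPresheaf _ _ ⋙ (evaluation _ _).obj (op W')) h')
  let e : (EtShriek.compEtale j).obj W' ≅ W :=
    ⟨MorphismProperty.Over.homMk (𝟙 _) ((Category.id_comp _).trans hr.symm),
      MorphismProperty.Over.homMk (𝟙 _) ((Category.id_comp _).trans hr),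
      MorphismProperty.Over.Hom.ext (Category.id_comp _), MorphismProperty.Over.Hom.ext (Category.id_comp _)⟩
  exact (F.obj.mapIso e.op).addCommGroupIsoToAddEquiv.toEquiv.subsingleton

end EtPurEqLib
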