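import Groth.Agent.EtPurEqLib.Divisor
import Groth.Agent.EtPurLib.Punct

/-!
# Purity on strictly henselian regular rings over a perfect field
-/

set_option autoImplicit false
set_option linter.all false
set_option backward.isDefEq.respectTransparency false
set_option backward.isDefEq.respectTransparency.types false
set_option synthInstance.maxHeartbeats 400000
set_option maxHeartbeats 1600000

universe u

open CategoryTheory CategoryTheory.Limits AlgebraicGeometry Opposite IsLocalRing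
open Groth.Agent Groth.Agent.EtShLib EtLocCohLib

noncomputable section

namespace EtPurEqLib

open EtPurLib


variable (k : Type u) [Field k] [PerfectField k]

theorem purity : ∀ (c : ℕ) (A : Type u) [CommRing A] [IsRegularLocalRing A] [HenselianLocalRing A]
    [IsSepClosed (ResidueField A)] [Algebra k A] (y : Fin c → A)
    (hreg : IsRegularLocalRing (A ⧸ Ideal.span (Set.range y)))
    (hdim : ringKrullDim (A ⧸ Ideal.span (Set.range y)) + (c : ℕ) = ringKrullDim A)
    {U : Scheme.{u}} (j : U ⟶ Spec (CommRingCat.of A)) [IsOpenImmersion j] [EtCoh.BCCont j]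
    (hj : Set.range j.base = (PrimeSpectrum.zeroLocus (Set.range y))ᶜ) (n : ℕ) (hnk : (n : k) ≠ 0),
    (∀ q : ℕ, q ≠ 2 * c → IsZero ((EtDual.HY j q).obj (EtCoh.const (Spec (CommRingCat.of A)) (ZMod n)))) ∧
      Nonempty ((EtDual.HY j (2 * c)).obj (EtCoh.const (Spec (CommRingCat.of A)) (ZMod n)) ≅
        AddCommGrpCat.of (ULift.{u + 1} (ZMod n)))
  | 0, A, _, _, _, _, _, y, _, _, U, j, _, _, hj, n, hnk => by
    haveI : IsEmpty U := ⟨fun z => by
      have h := hj.le ⟨z, rfl⟩
      rw [Set.range_eq_empty y, PrimeSpectrum.zeroLocus_empty, Set.compl_univ] at h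
      exact h⟩
    exact HY_empty A j _
  | c + 1, A, _, _, _, _, _, y, hreg, hdim, U, jY, _, _, hjY, n, hnk => by
    haveI := hreg
    obtain ⟨hm, hm2⟩ := first_notMem_sq y hdim
    obtain ⟨hBr, hBh, ⟨_, hBs⟩, hBreg, hBdim⟩ := quotient_first y hdim
    let π := Ideal.Quotient.mk (Ideal.span {y 0})
    let B := A ⧸ Ideal.span {y 0}
    let X := Spec (CommRingCat.of A)
    let D := Spec (CommRingCat.of B)
    let i : D ⟶ X := Spec.map (CommRingCat.ofHom π)
    haveI : IsClosedImmersion i := IsClosedImmersion.spec_of_surjective _ Ideal.Quotient.mk_surjective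
    let VD : X.Opens := PrimeSpectrum.basicOpen (y 0)
    let jD := VD.ι
    have hjD : Set.range jD.base = (PrimeSpectrum.zeroLocus {y 0})ᶜ :=
      (Scheme.Opens.range_ι VD).trans (PrimeSpectrum.basicOpen_eq_zeroLocus_compl (y 0))
    have hr : Set.range jD.base ⊆ Set.range jY.base := by
      rw [hjD, hjY]
      exact Set.compl_subset_compl.2 (PrimeSpectrum.zeroLocus_anti_mono (Set.singleton_subset_iff.2 ⟨0, rfl⟩))
    obtain ⟨hz, ⟨e2⟩⟩ := EtPurEqLib.divisor_locCoh k A (y 0) hm hm2 n hnk jD hjD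
    obtain ⟨hlow, hrow⟩ := HY_one_row jY jD hr (EtCoh.const X (ZMod n)) 2 hz
    let W : D.Opens := i ⁻¹ᵁ jY.opensRange
    let jY' := W.ι
    have hW : Set.range jY'.base = i.base ⁻¹' Set.range jY.base := Scheme.Opens.range_ι W
    have hjY' : Set.range jY'.base = (PrimeSpectrum.zeroLocus (Set.range (π ∘ y ∘ Fin.succ)))ᶜ := by
      rw [hW, hjY]
      ext Q
      show ¬ (Set.range y ⊆ (PrimeSpectrum.comap π Q).asIdeal) ↔ ¬ (Set.range (π ∘ y ∘ Fin.succ) ⊆ Q.asIdeal)
      rw [Set.range_subset_iff, Set.range_subset_iff, Fin.forall_fin_succ]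
      refine not_congr ⟨fun h k => h.2 k, fun h => ⟨?_, fun k => h k⟩⟩
      show π (y 0) ∈ Q.asIdeal
      rw [Ideal.Quotient.eq_zero_iff_mem.2 (Ideal.mem_span_singleton_self (y 0))]
      exact zero_mem _
    obtain ⟨ih1, ⟨ih2⟩⟩ := purity c B (π ∘ y ∘ Fin.succ) hBreg hBdim jY' hjY' n hnk
    have key : ∀ m : ℕ, Nonempty ((EtDual.HY jY (m + 2)).obj (EtCoh.const X (ZMod n)) ≅
        (EtDual.HY jY' m).obj (EtCoh.const D (ZMod n))) := fun m => by
      obtain ⟨e1⟩ := hrow m
      obtain ⟨e3⟩ := nonempty_HY_push jY i jY' hW (EtCoh.const D (ZMod n)) m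
      exact ⟨e1 ≪≫ (EtDual.HY jY m).mapIso e2 ≪≫ e3⟩
    refine ⟨fun q hq => ?_, ⟨(key (2 * c)).some ≪≫ ih2⟩⟩
    by_cases hq2 : q < 2
    · exact hlow q hq2
    obtain ⟨m, rfl⟩ : ∃ m, q = m + 2 := ⟨q - 2, by omega⟩
    exact (ih1 m (by omega)).of_iso (key m).some

end EtPurEqLib
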