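import Groth.Agent.EtPurEqLib.Sheaf
import Groth.Agent.EtPurLib.Semi

/-!
# Semi-purity for regular schemes over a perfect field
-/

set_option autoImplicit false
set_option linter.all false
set_option backward.isDefEq.respectTransparency false
set_option backward.isDefEq.respectTransparency.types false
set_option synthInstance.maxHeartbeats 400000
set_option maxHeartbeats 1600000

universe u

open CategoryTheory CategoryTheory.Limits AlgebraicGeometry Opposite IsLocalRing
open Groth.Agent Groth.Agent.EtShLib EtLocCohLib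

noncomputable section

namespace EtPurEqLib

open EtPurLib


variable (k : Type u) [Field k] [PerfectField k]

/-- Semi-purity for the local cohomology groups of one strictly henselian ring. -/
def LocalSemi (R : Type u) [CommRing R] (c : ℕ) : Prop :=
  ∀ {U : Scheme.{u}} (j : U ⟶ Spec (CommRingCat.of R)) [IsOpenImmersion j],
    (∀ P : Spec (CommRingCat.of R), P ∉ Set.range j.base →
      (c : WithBot ℕ∞) ≤ ringKrullDim ((Spec (CommRingCat.of R)).presheaf.stalk P)) →
    ∀ n : ℕ, (n : k) ≠ 0 → ∀ p : ℕ, p < 2 * c →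
      IsZero ((EtDual.HY j p).obj (EtCoh.const (Spec (CommRingCat.of R)) (ZMod n)))

/-- Semi-purity for the sheaves follows from the strictly local case. -/
theorem semipure_sheaf {X U : Scheme.{u}} [IsLocallyNoetherian X]
    (qX : X ⟶ Spec (CommRingCat.of k)) (hreg : ∀ x : X, IsRegularLocalRing (X.presheaf.stalk x))
    (j : U ⟶ X) [IsOpenImmersion j] [EtCoh.BCCont j] (c : ℕ)
    (hY : ∀ y : X, y ∉ Set.range j.base → (c : WithBot ℕ∞) ≤ ringKrullDim (X.presheaf.stalk y))
    (hL : ∀ y : X, y ∉ Set.range j.base → ∀ (R : Type u) [CommRing R] [IsRegularLocalRing R] [HenselianLocalRing R]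
      [IsSepClosed (ResidueField R)] [Algebra k R],
      ringKrullDim R = ringKrullDim (X.presheaf.stalk y) → LocalSemi k R c)
    (n : ℕ) (hnk : (n : k) ≠ 0) : EtDepth.DepthGE j (EtCoh.const X (ZMod n)) (2 * c) := by
  have hn : 0 < n := Nat.pos_of_ne_zero fun h => hnk (by simp [h])
  haveI : NeZero n := ⟨hn.ne'⟩
  haveI : IsLocallyNoetherian U := LocallyOfFiniteType.isLocallyNoetherian j
  intro q hq
  have hc : 0 < c := by omega
  have hd : DenseRange j.base := fun x => by
    obtain ⟨η, hη⟩ := QuasiSober.sober isIrreducible_irreducibleComponent (isClosed_irreducibleComponent (x := x))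
    have hmax : ∀ z : X, z ⤳ η → z = η := fun z hz => by
      have hC : irreducibleComponent x ⊆ closure {z} := by
        rw [← hη.def]
        exact isClosed_closure.closure_subset_iff.2 (Set.singleton_subset_iff.2 (specializes_iff_mem_closure.1 hz))
      have := (irreducibleComponent_mem_irreducibleComponents x).2 isIrreducible_singleton.closure hC
      exact (hz.antisymm (hη.specializes (this (subset_closure rfl)))).eq
    have hmem : η ∈ Set.range j.base := by
      refine Classical.not_not.1 fun hn => ?_
      have h1 := hY η hn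
      rw [ringKrullDim_stalk_eq_coheight,
        show Order.coheight η = 0 from Order.coheight_eq_zero.2 fun b hb => le_of_eq (hmax b hb)] at h1
      norm_cast at h1
      omega
    exact closure_mono (Set.singleton_subset_iff.2 hmem)
      (specializes_iff_mem_closure.1 (hη.specializes mem_irreducibleComponent))
  let M := AddCommGrpCat.of (ULift.{u + 1} (ZMod n))
  rcases q with _ | _ | p
  · haveI := EtLocCohLib.preservesFiniteLimits_secSupp j
    refine IsZero.of_iso ?_ ((EtDual.secSupp j).rightDerivedZeroIsoSelf.app _)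
    rcases subsingleton_or_nontrivial (ZMod n) with h | h
    · refine Functor.map_isZero _ ((IsZero.iff_id_eq_zero _).2 ?_)
      have e := Groth.Agent.S4164.nsmul_id_const' X n
      have hn1 : n = 1 := by
        by_contra h1
        haveI : Fact (1 < n) := ⟨lt_of_le_of_ne hn (Ne.symm h1)⟩
        exact not_nontrivial (ZMod n) inferInstance
      subst hn1
      rwa [one_smul] at e
    · exact (EtLocCohLib.isZero_secSupp_const_iff j M).2 hd
  · obtain ⟨⟨e⟩, -⟩ := Groth.Agent.S6658.result j (EtCoh.const X (ZMod n))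
    refine IsZero.of_iso ?_ e.symm
    haveI : Finite (ToType M) := inferInstanceAs (Finite (ULift.{u + 1} (ZMod n)))
    haveI : IsIso (EtDual.unitApp j (EtCoh.const X (ZMod n))) := by
      refine EtLocCohLib.isIso_unit_of_clopenExt j M hd (clopenExt_normal j fun W w => ?_)
      let h : W.left ⟶ X := W.hom
      haveI : AlgebraicGeometry.Etale h := W.prop
      haveI : IsRegularLocalRing (W.left.presheaf.stalk w) := (Groth.Agent.S0065.result h w).2 (hreg _)
      haveI := CommAlgDim.isDomain_of_isRegularLocalRing (W.left.presheaf.stalk w)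
      exact ⟨inferInstance, NormalLib.isIntegrallyClosed_of_isRegularLocalRing _⟩
    exact isZero_cokernel_of_epi _
  · obtain ⟨-, h⟩ := Groth.Agent.S6658.result j (EtCoh.const X (ZMod n))
    obtain ⟨e⟩ := h (p + 1) (by omega)
    refine IsZero.of_iso ?_ e.symm
    refine isZero_Rpush_of_strict j _ (p + 1) fun x R _ _ _ _ _ _ _ hclosed => subsingleton_H_fibre_const j _ n _ ?_
    by_cases hx : x ∈ Set.range j.base
    · exact subsingleton_H_over_open j x R _ hclosed hx n _ (by omega)
    haveI := hreg x
    haveI : IsRegularLocalRing R := (Groth.Agent.S2743.result (X.presheaf.stalk x) R).2 inferInstance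
    let g := Hens2.specOf X x R
    letI : Algebra k R := (Spec.preimage (g ≫ qX)).hom.toAlgebra
    haveI : Flat g := by
      haveI := AlgSpLib.flat_fromSpecStalk x
      haveI := Groth.Agent.S0539.result (X.presheaf.stalk x) R
      haveI : Flat (Spec.map (CommRingCat.ofHom (algebraMap (X.presheaf.stalk x) R))) :=
        (HasRingHomProperty.Spec_iff (P := @Flat)).2 (RingHom.flat_algebraMap_iff.2 inferInstance)
      exact inferInstanceAs (Flat (Spec.map _ ≫ X.fromSpecStalk x))
    haveI : IsLocallyNoetherian (Spec (CommRingCat.of R)) := inferInstance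
    let b := pullback.snd j g
    have hht : ∀ P : Spec (CommRingCat.of R), P ∉ Set.range b.base →
        (c : WithBot ℕ∞) ≤ ringKrullDim ((Spec (CommRingCat.of R)).presheaf.stalk P) := fun P hP => by
      refine (hY (g.base P) fun hg => hP ?_).trans (DepthLib.ringKrullDim_stalk_le_of_flat g P)
      exact (IsOpenImmersion.range_pullbackSnd j g).ge hg
    let Xs := Spec (CommRingCat.of R)
    have h1 := hL x hx R (Groth.Agent.S0541.result (X.presheaf.stalk x) R) b hht n hnk (p + 2) hq
    obtain ⟨e0⟩ := nonempty_HY_glob R b (EtCoh.const Xs (ZMod n)) (p + 1 + 1)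
    obtain ⟨-, h'⟩ := Groth.Agent.S6658.result b (EtCoh.const Xs (ZMod n))
    obtain ⟨e1⟩ := h' (p + 1) (by omega)
    obtain ⟨e2⟩ := nonempty_H_glob R b ((EtCoh.pull b).obj (EtCoh.const Xs (ZMod n))) (p + 1)
    exact ((EtCoh.HF _ (p + 1)).mapIso (EtCore.pullConst b (ZMod n))).addCommGroupIsoToAddEquiv.toEquiv.subsingleton_congr.1
      (AddCommGrpCat.subsingleton_of_isZero (h1.of_iso (e2 ≪≫ (glob Xs).mapIso e1 ≪≫ e0.symm)))

/-- Nothing is supported on the empty set. -/
theorem isZero_HY_surjective {X U : Scheme.{u}} (j : U ⟶ X) [IsOpenImmersion j] [EtCoh.BCCont j]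
    (hj : Function.Surjective j.base) (G : EtCoh.Ab X) (p : ℕ) : IsZero ((EtDual.HY j p).obj G) := by
  have h0 : ∀ F : EtCoh.Ab X, IsZero ((EtDual.gammaSupp j).obj F) := fun F => by
    haveI : Subsingleton ↑((EtDual.gammaSupp j).obj F) := ⟨fun a b => mono_suppι j F (by
      have hz : ∀ a, suppι j F a = 0 := fun a => by
        have := map_eq_zero_of_range j (suppι_zero j F a) (𝟙 (EtCoh.top X)) (fun z _ => hj z)
        simpa using this
      rw [hz a, hz b])⟩
    exact AddCommGrpCat.isZero_of_subsingleton _
  let I : InjectiveResolution G := injectiveResolution G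
  let K := ((EtDual.gammaSupp j).mapHomologicalComplex (ComplexShape.up ℕ)).obj I.cocomplex
  refine IsZero.of_iso ?_ (I.isoRightDerivedObj (EtDual.gammaSupp j) p)
  exact ShortComplex.isZero_homology_of_isZero_X₂ (K.sc p) (h0 _)

/-- Semi-purity on strictly henselian rings. -/
theorem localSemi : ∀ (d : ℕ) (R : Type u) [CommRing R] [IsRegularLocalRing R] [HenselianLocalRing R]
    [IsSepClosed (ResidueField R)] [Algebra k R], ringKrullDim R = (d : WithBot ℕ∞) → ∀ c : ℕ, LocalSemi k R c := by
  intro d
  induction d using Nat.strong_induction_on with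
  | _ d IH =>
  intro R _ _ _ _ _ hdimR c U j _ hY n hnk p hp
  let X := Spec (CommRingCat.of R)
  by_cases hcl : closedPoint R ∈ Set.range j.base
  · refine isZero_HY_surjective j (fun P => ?_) _ p
    exact (IsLocalRing.specializes_closedPoint P).mem_open j.isOpenEmbedding.isOpen_range hcl
  have hdimP : ∀ P : X, ringKrullDim (X.presheaf.stalk P) = (P.asIdeal.height : WithBot ℕ∞) := fun P => by
    letI : Algebra R (X.presheaf.stalk P) := StructureSheaf.stalkAlgebra R P
    haveI : IsLocalization.AtPrime (X.presheaf.stalk P) P.asIdeal :=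
      inferInstanceAs (IsLocalization.AtPrime ((Spec.structureSheaf R).presheaf.stalk P) P.asIdeal)
    exact IsLocalization.AtPrime.ringKrullDim_eq_height P.asIdeal _
  have hm : ((maximalIdeal R).height : WithBot ℕ∞) = d := maximalIdeal_height_eq_ringKrullDim.trans hdimR
  have hlt : ∀ P : X, P ≠ closedPoint R → ringKrullDim (X.presheaf.stalk P) < (d : WithBot ℕ∞) := fun P hP => by
    rw [hdimP, ← hm, WithBot.coe_lt_coe]
    exact Ideal.height_strict_mono_of_isPrime (lt_of_le_of_ne (IsLocalRing.le_maximalIdeal P.isPrime.ne_top)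
      fun h => hP (PrimeSpectrum.ext h))
  have hcd : c ≤ d := by
    have h := hY (closedPoint R) hcl
    rw [hdimP, show (closedPoint R).asIdeal = maximalIdeal R from rfl, hm] at h
    exact_mod_cast h
  -- a system of parameters
  obtain ⟨s, hs, hsm⟩ := Submodule.FG.exists_span_finset_card_eq_spanFinrank
    (IsNoetherian.noetherian (maximalIdeal R))
  have hsd : s.card = d := by
    have := IsRegularLocalRing.spanFinrank_maximalIdeal (R := R)
    rw [hdimR] at this
    rw [hs]
    exact_mod_cast this
  let y : Fin d → R := fun k => ((s.equivFinOfCardEq hsd).symm k : R)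
  have hy : Ideal.span (Set.range y) = maximalIdeal R := by
    rw [← hsm]
    refine congrArg Ideal.span (Set.ext fun r => ⟨?_, fun hr => ?_⟩)
    · rintro ⟨k, rfl⟩
      exact ((s.equivFinOfCardEq hsd).symm k).2
    · exact ⟨s.equivFinOfCardEq hsd ⟨r, hr⟩, by simp [y]⟩
  let eκ : R ⧸ Ideal.span (Set.range y) ≃+* ResidueField R := Ideal.quotEquivOfEq hy
  have hyreg : IsRegularLocalRing (R ⧸ Ideal.span (Set.range y)) := IsRegularLocalRing.of_ringEquiv eκ.symm
  have hydim : ringKrullDim (R ⧸ Ideal.span (Set.range y)) + (d : ℕ) = ringKrullDim R := by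
    rw [ringKrullDim_eq_of_ringEquiv eκ, ringKrullDim_eq_zero_of_field, zero_add, hdimR]
  have hpt : (PrimeSpectrum.zeroLocus (Set.range y) : Set X) = {closedPoint R} := by
    rw [← PrimeSpectrum.zeroLocus_span, hy]
    exact PrimeSpectrum.zeroLocus_eq_singleton (maximalIdeal R)
  rcases hcd.eq_or_lt with rfl | hlt'
  · -- support at the closed point
    have hrange : Set.range j.base = (PrimeSpectrum.zeroLocus (Set.range y))ᶜ := by
      rw [hpt]
      refine Set.ext fun P => ⟨fun h hP => hcl (hP ▸ h), fun hP => ?_⟩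
      refine Classical.not_not.1 fun h => ?_
      exact absurd (hY P h) (not_le.2 (hlt P hP))
    exact (EtPurEqLib.purity k c R y hyreg hydim j hrange n hnk).1 p (by omega)
  let V : X.Opens := FEt.puncturedSpec R
  let k' := V.ι
  have hk : Set.range k'.base = ({closedPoint R} : Set X)ᶜ := Scheme.Opens.range_ι V
  have hsub : Set.range j.base ⊆ Set.range k'.base := by
    rw [hk]
    exact fun P hP h => hcl (h ▸ hP)
  let j' := IsOpenImmersion.lift k' j hsub
  have hfac : j' ≫ k' = j := IsOpenImmersion.lift_fac _ _ _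
  haveI : IsOpenImmersion (j' ≫ k') := by rw [hfac]; infer_instance
  haveI : IsOpenImmersion j' := IsOpenImmersion.of_comp j' k'
  -- depth at the closed point
  let qR : X ⟶ Spec (CommRingCat.of k) :=
    Spec.map (CommRingCat.ofHom (algebraMap k R))
  let i : Spec (CommRingCat.of (ResidueField R)) ⟶ X := Spec.map (CommRingCat.ofHom (residue R))
  haveI : IsClosedImmersion i := IsClosedImmersion.spec_of_surjective _ residue_surjective
  have hi : Set.range i.base = {closedPoint R} := by
    refine (range_comap_of_surjective _ _ residue_surjective).trans ?_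
    rw [IsLocalRing.ker_residue]
    exact PrimeSpectrum.zeroLocus_eq_singleton (maximalIdeal R)
  have hdepth : EtDepth.DepthGE k' (EtCoh.const X (ZMod n)) (p + 2) := fun q hq => by
    refine EtPurEqLib.isZero_locCoh k qR (isRegularLocalRing_stalk R) i (isRegularLocalRing_stalk (ResidueField R)) k'
      (by rw [hk, hi]) d (fun z => ?_) (by omega) n hnk q (by omega)
    have hz : i.base z = closedPoint R := (Set.ext_iff.1 hi _).1 ⟨z, rfl⟩
    rw [hz, hdimP, show (closedPoint R).asIdeal = maximalIdeal R from rfl, hm]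
    letI : Algebra (ResidueField R) ((Spec (CommRingCat.of (ResidueField R))).presheaf.stalk z) :=
      StructureSheaf.stalkAlgebra _ z
    haveI : IsLocalization.AtPrime ((Spec (CommRingCat.of (ResidueField R))).presheaf.stalk z) z.asIdeal :=
      inferInstanceAs (IsLocalization.AtPrime ((Spec.structureSheaf _).presheaf.stalk z) z.asIdeal)
    rw [IsLocalization.AtPrime.ringKrullDim_eq_height z.asIdeal,
      show z.asIdeal.height = 0 from le_antisymm (by
        have := Ideal.height_le_ringKrullDim_of_ne_top z.isPrime.ne_top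
        rw [ringKrullDim_eq_zero_of_field] at this
        exact_mod_cast this) bot_le]
    simp
  obtain ⟨e⟩ := nonempty_HY_iso_of_depth k' j j' hfac (EtCoh.const X (ZMod n)) p hdepth
  refine IsZero.of_iso ?_ (e ≪≫ (EtDual.HY j' p).mapIso (EtCore.pullConst k' (ZMod n)))
  have hst : ∀ z : V.toScheme, ∃ e : X.presheaf.stalk (k'.base z) ≃+* V.toScheme.presheaf.stalk z, True :=
    fun z => ⟨(asIso (k'.stalkMap z)).commRingCatIsoToRingEquiv, trivial⟩
  have hY' : ∀ z : V.toScheme, z ∉ Set.range j'.base → k'.base z ∉ Set.range j.base := fun z hz h =>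
    hz ((range_j' k' j j' hfac).ge h)
  refine isZero_HY_of_depthGE j' _ (EtPurEqLib.semipure_sheaf k (k' ≫ qR) (fun z => ?_) j' c (fun z hz => ?_)
    (fun z hz S _ _ _ _ _ hS => ?_) n hnk) hp
  · haveI := isRegularLocalRing_stalk R (k'.base z)
    exact IsRegularLocalRing.of_ringEquiv (hst z).choose
  · rw [← ringKrullDim_eq_of_ringEquiv (hst z).choose]
    exact hY _ (hY' z hz)
  · obtain ⟨m, hmd⟩ := CommAlgDim.exists_ringKrullDim_eq (R := S)
    refine IH m ?_ S hmd c
    have h1 := hlt (k'.base z) (fun h => (hk.le ⟨z, rfl⟩) h)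
    rw [ringKrullDim_eq_of_ringEquiv (hst z).choose, ← hS, hmd] at h1
    exact_mod_cast h1

/-- Semi-purity for regular schemes over `ℚ`. -/
theorem semipure {X U : Scheme.{u}} [IsLocallyNoetherian X]
    (qX : X ⟶ Spec (CommRingCat.of k)) (hreg : ∀ x : X, IsRegularLocalRing (X.presheaf.stalk x))
    (j : U ⟶ X) [IsOpenImmersion j] [EtCoh.BCCont j] (c : ℕ)
    (hY : ∀ y : X, y ∉ Set.range j.base → (c : WithBot ℕ∞) ≤ ringKrullDim (X.presheaf.stalk y))
    (n : ℕ) (hnk : (n : k) ≠ 0) : EtDepth.DepthGE j (EtCoh.const X (ZMod n)) (2 * c) :=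
  EtPurEqLib.semipure_sheaf k qX hreg j c hY (fun _ _ R _ _ _ _ _ _ => by
    obtain ⟨m, hmd⟩ := CommAlgDim.exists_ringKrullDim_eq (R := R)
    exact EtPurEqLib.localSemi k m R hmd c) n hnk

end EtPurEqLib
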